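import Cfsg.Agent.Lib.Blocks.RankLifts
import Cfsg.Agent.Lib.Chars.Irr

/-!
# The dimension of the centre of a block algebra

It is the number of irreducible characters of the block.
-/

set_option autoImplicit false
set_option linter.unusedSectionVars false
set_option linter.style.haveILetI false

namespace CfsgLib.EqualDegree

open Cfsg CfsgLib.Blocks CfsgLib.Chars Module

variable {G : Type*} [Group G] [Fintype G] {M : Ideal AlgInt} [M.IsPrime]
  {B : Set (IrrCharacter G)}

variable (M G) in
/-- The coefficient at the identity. -/
noncomputable def formOne : MonoidAlgebra (ResField M) G →ₗ[ResField M] ResField M where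
  toFun x := x.coeff 1
  map_add' a b := by simp
  map_smul' r a := by simp

theorem formOne_mul_comm (a b : MonoidAlgebra (ResField M) G) :
    formOne G M (a * b) = formOne G M (b * a) := by
  show (a * b).coeff 1 = (b * a).coeff 1
  conv_lhs => rw [sum_single_coeff a, Finset.sum_mul]
  conv_rhs => rw [sum_single_coeff a, Finset.mul_sum]
  simp only [MonoidAlgebra.coeff_sum, Finsupp.finsetSum_apply,
    MonoidAlgebra.coeff_single_mul_apply, MonoidAlgebra.coeff_mul_single_apply, mul_one, one_mul]
  exact Finset.sum_congr rfl fun g _ => mul_comm _ _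

theorem eq_zero_of_formOne {z : MonoidAlgebra (ResField M) G}
    (h : ∀ x, formOne G M (z * x) = 0) : z = 0 := by
  apply MonoidAlgebra.ext
  ext g
  have h1 := h (MonoidAlgebra.single g⁻¹ (1 : ResField M))
  change (z * MonoidAlgebra.single g⁻¹ (1 : ResField M)).coeff 1 = 0 at h1
  rw [MonoidAlgebra.coeff_mul_single_apply] at h1
  simpa using h1

/-- The centre of the group algebra. -/
noncomputable def centerSub (G : Type*) [Group G] [Fintype G] (M : Ideal AlgInt) [M.IsPrime] :
    Submodule (ResField M) (MonoidAlgebra (ResField M) G) where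
  carrier := {z | ∀ a, a * z = z * a}
  add_mem' := fun {x y} hx hy a => by rw [mul_add, add_mul, hx a, hy a]
  zero_mem' := fun a => by rw [mul_zero, zero_mul]
  smul_mem' := fun c x hx a => by rw [mul_smul_comm, smul_mul_assoc, hx a]

/-- The centre of a block algebra. -/
noncomputable def blockCenter (hB : IsPBlock M B) :
    Submodule (ResField M) (MonoidAlgebra (ResField M) G) where
  carrier := {z | (∀ a, a * z = z * a) ∧ blockIdem hB * z = z}
  add_mem' := fun {x y} hx hy =>
    ⟨fun a => by rw [mul_add, add_mul, hx.1 a, hy.1 a], by rw [mul_add, hx.2, hy.2]⟩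
  zero_mem' := ⟨fun a => by rw [mul_zero, zero_mul], mul_zero _⟩
  smul_mem' := fun c x hx =>
    ⟨fun a => by rw [mul_smul_comm, smul_mul_assoc, hx.1 a], by rw [mul_smul_comm, hx.2]⟩

theorem mem_blockCenter {hB : IsPBlock M B} {z : MonoidAlgebra (ResField M) G} :
    z ∈ blockCenter hB ↔ (∀ a, a * z = z * a) ∧ blockIdem hB * z = z := Iff.rfl

theorem mul_mem_blockCenter {hB : IsPBlock M B} {y z : MonoidAlgebra (ResField M) G}
    (hy : y ∈ blockCenter hB) (hz : z ∈ blockCenter hB) : y * z ∈ blockCenter hB :=
  ⟨fun a => by rw [← mul_assoc, hy.1 a, mul_assoc, hz.1 a, ← mul_assoc],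
    by rw [← mul_assoc, hy.2]⟩

theorem blockIdem_mem_blockCenter (hB : IsPBlock M B) : blockIdem hB ∈ blockCenter hB :=
  ⟨fun a => (commute_blockIdem hB a).eq.symm, blockIdem_mul_self hB⟩

/-- The centre of a block has at most as many dimensions as the block has characters. -/
theorem finrank_blockCenter_le (hB : IsPBlock M B) :
    finrank (ResField M) (blockCenter hB) ≤ Nat.card B := by
  classical
  set bb := Module.finBasis (ResField M) (blockCenter hB)
  set μ : Fin (finrank (ResField M) (blockCenter hB)) →
      MonoidAlgebra (ResField M) G →ₗ[ResField M] ResField M := fun i =>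
    formOne G M ∘ₗ LinearMap.mulLeft (ResField M) ((bb i : MonoidAlgebra (ResField M) G))
  have hap : ∀ i x, μ i x = formOne G M ((bb i : MonoidAlgebra (ResField M) G) * x) :=
    fun i x => rfl
  have h := card_symm_le hB μ (fun i x y => by
    rw [hap, hap, ← mul_assoc, formOne_mul_comm, ← mul_assoc, (bb i).2.1 y, mul_assoc])
    (fun i x => by
      rw [hap, hap, ← mul_assoc, ← (bb i).2.1, (bb i).2.2])
    (Fintype.linearIndependent_iff.2 fun c hc => by
      refine Fintype.linearIndependent_iff.1 bb.linearIndependent c ?_
      apply Subtype.ext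
      refine eq_zero_of_formOne fun x => ?_
      have h1 := LinearMap.congr_fun hc x
      simp only [LinearMap.coe_sum, Finset.sum_apply, LinearMap.smul_apply, hap,
        LinearMap.zero_apply] at h1
      rw [AddSubmonoidClass.coe_finsetSum, Finset.sum_mul, map_sum]
      refine Eq.trans (Finset.sum_congr rfl fun i _ => ?_) h1
      rw [Submodule.coe_smul, smul_mul_assoc, map_smul])
  simpa using h

/-- The centre of the group algebra has at least as many dimensions as there are classes. -/
theorem card_classes_le_finrank_center :
    Nat.card (ConjClasses G) ≤ finrank (ResField M) (centerSub G M) := by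
  classical
  haveI := Fintype.ofFinite (ConjClasses G)
  let v : ConjClasses G → centerSub G M := fun C =>
    ⟨redFun (classInd (classRep C)) (isLocClassFun_classInd (M := M) _).2, fun a =>
      (commute_redFun (isLocClassFun_classInd (M := M) _) a).eq.symm⟩
  have hv : LinearIndependent (ResField M) v := by
    rw [Fintype.linearIndependent_iff]
    intro c hc C
    have h1 := congrArg (fun z : centerSub G M =>
      (z : MonoidAlgebra (ResField M) G).coeff (classRep C)) hc
    simp only [AddSubmonoidClass.coe_finsetSum, Submodule.coe_smul, MonoidAlgebra.coeff_sum,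
      Finsupp.finsetSum_apply, MonoidAlgebra.coeff_smul, Finsupp.smul_apply, smul_eq_mul,
      ZeroMemClass.coe_zero, MonoidAlgebra.coeff_zero, Finsupp.coe_zero, Pi.zero_apply] at h1
    rw [Finset.sum_eq_single C] at h1
    · simp only [v, coeff_redFun] at h1
      rwa [show (⟨classInd (classRep C) (classRep C), _⟩ : loc M) = 1 from Subtype.ext
        (show classInd (classRep C) (classRep C) = 1 by
          rw [classInd_apply, if_pos (IsConj.refl _)]), map_one, mul_one] at h1
    · intro D _ hD
      simp only [v, coeff_redFun]
      rw [show (⟨classInd (classRep D) (classRep C), _⟩ : loc M) = 0 from Subtype.ext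
        (show classInd (classRep D) (classRep C) = 0 by
          rw [classInd_apply, if_neg fun hc => hD (by
            rw [← mk_classRep D, ← mk_classRep C]
            exact ConjClasses.mk_eq_mk_iff_isConj.2 hc)]), map_zero, mul_zero]
    · simp
  rw [Nat.card_eq_fintype_card]
  exact hv.fintype_card_le_finrank

/-- **The dimension of the centre of a block is the number of its characters.** -/
theorem finrank_blockCenter (hB : IsPBlock M B) :
    finrank (ResField M) (blockCenter hB) = Nat.card B := by
  classical
  refine le_antisymm (finrank_blockCenter_le hB) ?_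
  haveI := irrFintype G
  let I := {b : Set (IrrCharacter G) // IsPBlock M b}
  haveI : Fintype I := Fintype.ofFinite I
  let φ : (∀ b : I, blockCenter b.2) →ₗ[ResField M] MonoidAlgebra (ResField M) G :=
    ∑ b : I, (blockCenter b.2).subtype ∘ₗ LinearMap.proj b
  have hone : ∑ b : I, blockIdem b.2 = 1 := by
    apply MonoidAlgebra.ext
    ext g
    have e := congrFun (sum_blockFinset_blockCoeff (G := G) (M := M)) g
    rw [Finset.sum_apply, Finset.sum_subtype (p := IsPBlock M) (blockFinset M G)
      (fun f => mem_blockFinset)] at e
    rw [MonoidAlgebra.coeff_sum, Finsupp.finsetSum_apply]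
    simp only [blockIdem, coeff_redFun]
    rw [← map_sum, show ∑ b : I, (⟨blockCoeff b.1 g, _⟩ : loc M) =
        ⟨classInd 1 g, (isLocClassFun_classInd (M := M) 1).2 g⟩ from Subtype.ext (by
      rw [AddSubmonoidClass.coe_finsetSum]; exact e), MonoidAlgebra.one_def,
      MonoidAlgebra.coeff_single]
    by_cases h1 : g = 1
    · subst h1
      rw [Finsupp.single_eq_same, ← map_one (red (M := M))]
      exact congrArg red (Subtype.ext
        (show classInd 1 (1 : G) = 1 by rw [classInd_apply, if_pos (IsConj.refl _)]))
    · rw [Finsupp.single_eq_of_ne h1, ← map_zero (red (M := M))]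
      exact congrArg red (Subtype.ext
        (show classInd 1 g = 0 by
          rw [classInd_apply, if_neg fun hc => h1 (isConj_one_right.1 hc)]))
  have hle : centerSub G M ≤ LinearMap.range φ := by
    intro z hz
    refine ⟨fun b => ⟨blockIdem b.2 * z, fun a => ?_, ?_⟩, ?_⟩
    · rw [← mul_assoc, ← (commute_blockIdem b.2 a).eq, mul_assoc, hz a, ← mul_assoc]
    · rw [← mul_assoc, blockIdem_mul_self]
    · simp only [φ, LinearMap.coe_sum, Finset.sum_apply, LinearMap.comp_apply,
        LinearMap.proj_apply, Submodule.subtype_apply]
      rw [← Finset.sum_mul, hone, one_mul]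
  have h1 : finrank (ResField M) (centerSub G M) ≤
      ∑ b : I, finrank (ResField M) (blockCenter b.2) := by
    rw [← Module.finrank_pi_fintype (ResField M)]
    exact (Submodule.finrank_mono hle).trans (LinearMap.finrank_range_le φ)
  have h2 : ∑ b : I, Nat.card b.1 = Nat.card (ConjClasses G) := by
    rw [← card_irr_eq_card_classes, ← Nat.card_sigma]
    refine Nat.card_congr ((Equiv.sigmaCongrRight fun b => ?_).trans
      (Equiv.sigmaFiberEquiv (fun χ : IrrCharacter G =>
        (⟨blockOf M (χ : G → ℂ), isPBlock_blockOf χ⟩ : I))))
    exact Equiv.subtypeEquivRight fun χ =>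
      ⟨fun h => Subtype.ext (IsPBlock.eq_blockOf b.2 h).symm,
        fun h => by rw [← h]; exact mem_blockOf_self χ⟩
  have h3 := h1.trans' (card_classes_le_finrank_center (G := G) (M := M))
  rw [← h2] at h3
  have h4 : ∀ b ∈ (Finset.univ : Finset I),
      finrank (ResField M) (blockCenter b.2) ≤ Nat.card b.1 :=
    fun b _ => finrank_blockCenter_le b.2
  exact ((Finset.sum_eq_sum_iff_of_le h4).1
    (le_antisymm (Finset.sum_le_sum h4) h3) ⟨B, hB⟩ (Finset.mem_univ _)).ge

end CfsgLib.EqualDegree
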