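import Cfsg.Agent.Lib.Blocks.NilpotentStar
import Cfsg.Agent.Lib.Blocks.MaximalPairs

/-!
# The height zero characters of a nilpotent block have one degree
-/

set_option autoImplicit false
set_option linter.unusedSectionVars false
set_option linter.style.haveILetI false

namespace CfsgLib.EqualDegree

open Cfsg CfsgLib.Blocks CfsgLib.Chars

variable {G : Type*} [Group G] [Fintype G] {M : Ideal AlgInt} [M.IsPrime] {p : ℕ} [Fact p.Prime]
  {B : Set (IrrCharacter G)}

theorem exists_degree_of_nilpotent (hpM : (p : AlgInt) ∈ M) {D : Subgroup G}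
    (hD : IsDefectGroup p M B D) (hnil : IsNilpotentBlock p M B) :
    ∃ d : ℕ, ∀ χ : IrrCharacter G, χ ∈ B → blockHeight p B (χ : G → ℂ) = 0 →
      charDegree (χ : G → ℂ) = d := by
  have hp : p.Prime := Fact.out
  obtain ⟨ε, hε⟩ := exists_pair_on_defectGroup hpM hnil.1 hD
  have hmax := isMaximal_of_defectGroup hpM hD hε
  obtain ⟨χ, hχ, h0⟩ := BlockOrth.exists_blockHeight_eq_zero (p := p) hnil.1
  obtain ⟨Ψ, hΨ⟩ := nilpotent_parametrisation hpM hnil hmax hχ h0
  refine ⟨charDegree (χ : G → ℂ), fun ξ hξ hξ0 => ?_⟩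
  obtain ⟨ψ, hψ⟩ := Ψ.surjective ⟨ξ, hξ⟩
  have h1 := (hΨ ψ).1
  rw [hψ, BlockOrth.irr_apply_one, BlockOrth.irr_apply_one, BlockOrth.irr_apply_one,
    ← Nat.cast_mul, Nat.cast_inj] at h1
  obtain ⟨n, -, hn, hdvd⟩ := irr_degree_dvd_card ψ.2
  rw [BlockOrth.irr_apply_one, Nat.cast_inj] at hn
  obtain ⟨k, hk⟩ := IsPGroup.iff_card.1 (IsDefectGroup.isPGroup hD)
  rw [hk] at hdvd
  obtain ⟨m, -, rfl⟩ := (Nat.dvd_prime_pow hp).1 hdvd
  have e1 := (BlockOrth.blockHeight_eq_zero_iff hξ).1 hξ0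
  have e2 := (BlockOrth.blockHeight_eq_zero_iff hχ).1 h0
  rw [BlockOrth.degVal, h1, hn, Nat.factorization_mul (pow_ne_zero _ hp.ne_zero)
    (BlockOrth.irr_charDegree_ne_zero χ), Finsupp.add_apply, hp.factorization_pow,
    Finsupp.single_eq_same] at e1
  rw [BlockOrth.degVal] at e2
  have hm : m = 0 := by omega
  rw [h1, hn, hm, pow_zero, one_mul]

end CfsgLib.EqualDegree
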