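import Cfsg.Agent.Lib.Blocks.EqualDegree.Socle
import Cfsg.Agent.Lib.Blocks.InertialQuotient
import Cfsg.Agent.Lib.Blocks.MaximalCriterion
import Cfsg.Agent.Lib.Blocks.CyclicBound
import Cfsg.Agent.Lib.Blocks.StarTau
import Cfsg.Agent.Lib.BlockOrth.CentralDefect

/-!
# Equal degrees and an abelian defect group make a block nilpotent

The Brauer map is injective on the centre of the block, so the centre has the dimension of the
centre of the block of the centralizer, and the inertial group fixes the defect group.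
-/

set_option autoImplicit false
set_option linter.unusedSectionVars false
set_option linter.style.haveILetI false

namespace CfsgLib.EqualDegree

open Cfsg CfsgLib.Blocks CfsgLib.Chars Module
open scoped ComplexConjugate

universe u

variable {G : Type u} [Group G] [Fintype G] {M : Ideal AlgInt} [M.IsPrime] {p : ℕ}
  [Fact p.Prime] {B : Set (IrrCharacter G)} {f : ℕ}

/-- A trivial inertial group makes a block with abelian defect group nilpotent. -/
theorem isNilpotentBlock_of_trivial_inertia (hpM : (p : AlgInt) ∈ M) {P : Subgroup G}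
    {e : Set (IrrCharacter (Subgroup.centralizer (P : Set G)))}
    (hmax : IsMaximalBrauerPair p M B P e) (hab : ∀ x ∈ P, ∀ y ∈ P, x * y = y * x)
    (htriv : stabPair ⟨P, e⟩ ≤ Subgroup.centralizer (P : Set G)) :
    IsNilpotentBlock p M B := by
  refine ⟨hmax.1.2.1, fun Q h hQh x hxN hxS _ => ?_⟩
  obtain ⟨y, hy⟩ := exists_conj_below hpM (a := ⟨Q, h⟩) (b := ⟨P, e⟩) hmax hQh
  have hx : y * x * y⁻¹ ∈ stabPair (conjPair y ⟨Q, h⟩) :=
    (conj_mem_stabPair_iff _ y x).2 ((mem_stabPair_iff hQh.1.2).2 ⟨hxN, hxS⟩)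
  obtain ⟨c, hc, hcx⟩ := exists_centralizer_conj hpM hmax hab
    (Q := Q.map (MulAut.conj y).toMonoidHom) (f := conjBlock Q y h) hy hx
  have h2 := centralizer_antitone (below_le hy) (htriv hcx)
  have h3 := Subgroup.mul_mem _ (inv_mem hc) h2
  rw [inv_mul_cancel_left] at h3
  exact (centralizer_conj_iff Q y x).1 h3

/-- A block with a central defect group of order `p ^ d` has at most `p ^ d` characters. -/
theorem card_le_of_central {D : Subgroup G} (hM : IsPModular p M) (hB : IsPBlock M B)
    (hD : IsDefectGroup p M B D) (hDZ : D ≤ Subgroup.center G) :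
    Nat.card B ≤ p ^ blockDefect p B := by
  classical
  haveI := irrFintype G
  obtain ⟨χ₀, hχ₀, h0⟩ := BlockOrth.exists_blockHeight_eq_zero (p := p) hB
  have h := BlockOrth.sum_dInt_mul_dInt (ψ := χ₀) hM.2.2 hB hχ₀
  rw [BlockOrth.dInt_self_of_central hM hB hD hDZ hχ₀, mul_one] at h
  have e : Nat.card B = (Finset.univ.filter (· ∈ B)).card := by
    rw [← Nat.card_eq_finsetCard]
    exact Nat.card_congr (Equiv.subtypeEquivRight fun χ => by simp)
  have h2 : ((Finset.univ.filter (· ∈ B)).card : ℤ) ≤ (p : ℤ) ^ blockDefect p B := by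
    rw [← h, Finset.card_eq_sum_ones, Nat.cast_sum]
    refine Finset.sum_le_sum fun ξ hξ => ?_
    rw [BlockOrth.dInt_symm ξ χ₀, ← sq, Nat.cast_one]
    have := BlockOrth.dInt_ne_zero hM.2.2 hB hχ₀ (Finset.mem_filter.mp hξ).2 h0
    rcases lt_or_gt_of_ne this with h' | h' <;> nlinarith
  rw [e]
  exact_mod_cast h2

/-- The block of the centralizer of a maximal pair with abelian group has few characters. -/
theorem card_pair_le {D : Subgroup G}
    {e : Set (IrrCharacter (Subgroup.centralizer (D : Set G)))} (hM : IsPModular p M)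
    (hmax : IsMaximalBrauerPair p M B D e) (hab : ∀ x ∈ D, ∀ y ∈ D, x * y = y * x) :
    Nat.card e ≤ Nat.card D := by
  classical
  have hp : p.Prime := Fact.out
  have hpM := hM.2.2
  haveI := Fintype.ofFinite (Subgroup.centralizer (D : Set G))
  have hDC : D ≤ Subgroup.centralizer (D : Set G) := fun x hx =>
    Subgroup.mem_centralizer_iff.2 fun y hy => hab y hy x hx
  obtain ⟨hd, -⟩ := maximal_pair_facts hpM hmax
  rw [inf_eq_left.2 hDC] at hd
  obtain ⟨z, hz⟩ := IsPGroup.iff_card.1 hmax.1.1.1
  rw [hz, hp.factorization_pow, Finsupp.single_eq_same] at hd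
  obtain ⟨D', hD', hle⟩ := exists_defect_ge (b := ⟨D, e⟩) hpM hmax.1.1 Relation.ReflTransGen.refl
    le_rfl (centralizer_le_stabPair hmax.1.1.2) hmax.1.1.2 rfl (S := D) le_rfl hDC
  have heq : D.subgroupOf (Subgroup.centralizer (D : Set G)) = D' := by
    refine Subgroup.eq_of_le_of_card_ge hle ?_
    rw [Base.card_subgroupOf hDC, BlockOrth.card_defectGroup hpM hmax.1.1.2 hD', hd, hz]
  have hcen : D' ≤ Subgroup.center (Subgroup.centralizer (D : Set G)) := by
    rw [← heq]
    intro x hx
    rw [Subgroup.mem_center_iff]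
    exact fun g => Subtype.ext
      (Subgroup.mem_centralizer_iff.1 g.2 _ (Subgroup.mem_subgroupOf.1 hx)).symm
  have h := card_le_of_central hM hmax.1.1.2 hD' hcen
  rwa [hd, ← hz] at h

/-- **Equal degrees and an abelian defect group make a block nilpotent.** -/
theorem isNilpotentBlock_of_equal (hM : IsPModular p M) (hB : IsPBlock M B) {D : Subgroup G}
    (hD : IsDefectGroup p M B D) (hab : ∀ x ∈ D, ∀ y ∈ D, x * y = y * x)
    (hf : ∀ χ ∈ B, charDegree (χ : G → ℂ) = f) : IsNilpotentBlock p M B := by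
  classical
  have hp : p.Prime := Fact.out
  have hpM := hM.2.2
  haveI := charP_resField (M := M) hp hpM
  obtain ⟨-, hdvd⟩ := rank_one_and_dvd hpM hB hf
  obtain ⟨hf0, hfac⟩ := factorization_degree (p := p) hB hf
  obtain ⟨ε, hε⟩ := exists_pair_on_defectGroup hpM hB hD
  have hmax := isMaximal_of_defectGroup hpM hD hε
  refine isNilpotentBlock_of_trivial_inertia hpM hmax hab fun x hx => ?_
  set he := hε.1.2 with hhe
  obtain ⟨C, hC⟩ : ∃ C, C = Subgroup.centralizer (D : Set G) := ⟨_, rfl⟩
  haveI := Fintype.ofFinite (Subgroup.centralizer (D : Set G))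
  have hDC : D ≤ Subgroup.centralizer (D : Set G) := fun x hx =>
    Subgroup.mem_centralizer_iff.2 fun y hy => hab y hy x hx
  have hDp : IsPGroup p D := IsDefectGroup.isPGroup hD
  have hfixD : ∀ z, (∀ a, a * z = z * a) → IsFixedBy D (z : MonoidAlgebra (ResField M) G) :=
    fun z hz => isFixedBy_iff_commute.2 fun u _ => (hz _).symm
  -- the map
  let θ : MonoidAlgebra (ResField M) G →ₗ[ResField M] MonoidAlgebra (ResField M) G :=
    { toFun := fun z => cut (Subgroup.centralizer (D : Set G) : Set G) z * pairIdem he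
      map_add' := fun a b => by rw [cut_add, add_mul]
      map_smul' := fun c a => by rw [cut_smul, smul_mul_assoc]; rfl }
  have hθ : ∀ z, θ z = cut (Subgroup.centralizer (D : Set G) : Set G) z * pairIdem he := fun _ => rfl
  have hcomm : ∀ z : MonoidAlgebra (ResField M) G,
      cut (Subgroup.centralizer (D : Set G) : Set G) z * pairIdem he =
        pairIdem he * cut (Subgroup.centralizer (D : Set G) : Set G) z := fun z =>
    (Blocks.commute_pairIdem_of_cut he (cut_cut_self _ z)).eq
  have hθmul : ∀ y ∈ blockCenter hB, ∀ z ∈ blockCenter hB, θ (y * z) = θ y * θ z := by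
    intro y hy z hz
    rw [hθ, hθ, hθ, cut_mul p hDp (hfixD y hy.1) (hfixD z hz.1)]
    conv_rhs => rw [hcomm z, mul_assoc, ← mul_assoc (pairIdem he), pairIdem_mul_self, ← hcomm z,
      ← mul_assoc]
  -- the character element
  obtain ⟨g₀, hg₀, S, hS⟩ := id hD
  have hg₀C : g₀ ∈ Subgroup.centralizer (D : Set G) := hS ▸ mem_centralizer_sylow g₀ S
  obtain ⟨χ, hχ, h0⟩ := BlockOrth.exists_blockHeight_eq_zero (p := p) hB
  set a : G → ℂ := ((p ^ blockDefect p B : ℕ) : ℂ) • idemCoeff (χ : G → ℂ) with ha
  have hunit := natDiv_unit (M := M) hpM (i := p ^ blockDefect p B * f) (d := Nat.card G)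
    (mul_ne_zero (pow_ne_zero _ hp.ne_zero) hf0) Nat.card_pos.ne' (by
      rw [Nat.factorization_mul (pow_ne_zero _ hp.ne_zero) hf0, hp.factorization_pow,
        Finsupp.add_apply, Finsupp.single_eq_same, hfac, add_comm])
  have hav : ∀ g, a g = ((p ^ blockDefect p B * f : ℕ) : ℂ) / (Nat.card G : ℂ) *
      conj ((χ : G → ℂ) g) := fun g => by
    rw [ha, Pi.smul_apply, smul_eq_mul, idemCoeff, BlockOrth.irr_apply_one, hf χ hχ]
    push_cast
    ring
  have hal : IsLocClassFun M a :=
    ⟨isClassFunction_smul _ (isClassFunction_idemCoeff χ), fun g => by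
      rw [hav]; exact mul_mem hunit.1 (conj_irr_mem_loc χ g)⟩
  have hfix : ∀ b : G → ℂ, IsClassFunction G b →
      conv b a = omega (χ : G → ℂ) b • a := by
    intro b hb
    refine classFun_ext_omega (isClassFunction_conv hb hal.1) (isClassFunction_smul _ hal.1)
      fun ψ => ?_
    rw [omega_conv ψ hb, omega_smul, ha]
    simp only [omega_smul]
    have e : omega (ψ : G → ℂ) (idemCoeff (χ : G → ℂ)) = if ψ = χ then 1 else 0 := by
      have h := omega_blockCoeff ({χ} : Set (IrrCharacter G)) ψ
      rw [show blockCoeff ({χ} : Set (IrrCharacter G)) = idemCoeff (χ : G → ℂ) from funext fun g => by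
        rw [blockCoeff, finsum_mem_singleton, idemCoeff]] at h
      simpa using h
    rw [e]
    split_ifs with hψ
    · rw [hψ]
    · simp
  set s₀ := redFun a hal.2 with hs₀
  have hs₀Z : s₀ ∈ blockCenter hB := by
    refine ⟨fun y => (commute_redFun hal y).eq.symm, ?_⟩
    rw [hs₀, blockIdem, redFun, redFun, ← map_mul, toAlg_conv (blockCoeff_mem_loc hB) hal.2
      ((isLocClassFun_blockCoeff hB).conv hal).2]
    congr 1
    apply MonoidAlgebra.ext
    ext y
    rw [coeff_toAlg, coeff_toAlg, hfix _ (isClassFunction_blockCoeff B), omega_blockCoeff,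
      if_pos hχ, one_smul]
  have hs₀k : ∀ j ∈ blockCenter hB, IsNilpotent j → j * s₀ = 0 := by
    intro j hj hjn
    choose lift hlift using (IsLocalRing.residue_surjective (R := loc M))
    set b : G → ℂ := fun y => (lift (j.coeff (classRep (ConjClasses.mk y))) : ℂ) with hb
    have hbl : IsLocClassFun M b := by
      refine ⟨fun y c => ?_, fun y => Subtype.coe_prop _⟩
      simp only [hb]
      rw [ConjClasses.mk_eq_mk_iff_isConj.2
        (isConj_iff.2 ⟨c⁻¹, by group⟩ : IsConj (c * y * c⁻¹) y)]
    have hjb : j = redFun b hbl.2 := by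
      apply MonoidAlgebra.ext
      ext y
      rw [coeff_redFun]
      show _ = red (lift (j.coeff (classRep (ConjClasses.mk y))))
      rw [show red (lift (j.coeff (classRep (ConjClasses.mk y)))) = _ from hlift _]
      obtain ⟨c, hc⟩ := isConj_iff.1
        (ConjClasses.mk_eq_mk_iff_isConj.1 (mk_classRep (ConjClasses.mk y)))
      conv_lhs => rw [← hc]
      exact ((isFixedBy_iff_commute (P := (⊤ : Subgroup G))).2 fun u _ => (hj.1 _).symm) c
        (Subgroup.mem_top c) _
    have hm : MemLocalIdeal M (omega (χ : G → ℂ) b) := by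
      by_contra hu
      obtain ⟨w, hw, hEw⟩ := exists_blockIdem_eq_mul hB hbl hχ hu
      rw [← hjb, hj.2] at hEw
      obtain ⟨k, hk⟩ : IsNilpotent (blockIdem hB) :=
        hEw ▸ (hw j).symm.isNilpotent_mul_right hjn
      have h1 : IsIdempotentElem (blockIdem hB) := blockIdem_mul_self hB
      exact blockIdem_ne_zero hB (by rw [← h1.pow_succ_eq k, pow_succ, hk, zero_mul])
    rw [hjb, hs₀, redFun, redFun, ← map_mul, toAlg_conv hbl.2 hal.2 (hbl.conv hal).2]
    apply MonoidAlgebra.ext
    ext y
    rw [MonoidAlgebra.coeff_zero, Finsupp.coe_zero, Pi.zero_apply, coeff_redAlg_eq_zero_iff,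
      coeff_toAlg, hfix b hbl.1, Pi.smul_apply, smul_eq_mul]
    exact MemLocalIdeal.mul_right' hm (hal.2 y)
  have hs₀cut : cut (Subgroup.centralizer (D : Set G) : Set G) s₀ ≠ 0 := by
    intro h
    have h1 := congrArg (fun z : MonoidAlgebra (ResField M) G => z.coeff g₀⁻¹) h
    simp only [coeff_cut_of_mem _ (inv_mem hg₀C), MonoidAlgebra.coeff_zero, Finsupp.coe_zero,
      Pi.zero_apply] at h1
    rw [hs₀, coeff_redFun_eq_zero_iff, hav, irr_inv, Complex.conj_conj] at h1
    rcases MemLocalIdeal.mem_or_mem hunit.1 (irr_mem_loc χ g₀) h1 with h2 | h2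
    · exact hunit.2 h2
    · have h3 := not_mem_apply_of_defectClass hpM hB hg₀ (Commute.one_left g₀)
        ⟨0, by simp⟩ hχ h0
      rw [one_mul] at h3
      exact h3 h2
  have hθs₀ : θ s₀ ≠ 0 := by
    intro h
    apply hs₀cut
    rw [← mul_one (cut _ s₀), ← sum_pairIdem (M := M)
      (blockFinset M (Subgroup.centralizer (D : Set G))) rfl
      (fun h => if hh : IsPBlock M h then pairIdem hh else 0) (fun h hh => dif_pos hh),
      Finset.mul_sum]
    refine Finset.sum_eq_zero fun h' hh' => ?_
    have hh := mem_blockFinset.1 hh'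
    rw [dif_pos hh]
    have hpair : IsBrauerPair p M D h' := ⟨hDp, hh⟩
    rcases (isBrauerPairOf_iff hpM hpair hB).2 with h1 | h1
    · obtain ⟨y, hyN, hy⟩ :=
        exists_conj_pair_same_group hpM hmax ((isBrauerPairOf_iff hpM hpair hB).1.2 h1)
      have e1 : conjAlg y (pairIdem he) = pairIdem hh := by
        have e0 := pairE_conjPair (a := (⟨D, ε⟩ : BrauerPairIdx G)) he y
        rwa [hy, pairE_eq (a := (⟨D, ε⟩ : BrauerPairIdx G)) he,
          pairE_eq (a := (⟨D, h'⟩ : BrauerPairIdx G)) hh] at e0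
      have e2 : conjAlg y (cut (Subgroup.centralizer (D : Set G) : Set G) s₀) =
          cut (Subgroup.centralizer (D : Set G) : Set G) s₀ := by
        apply MonoidAlgebra.ext
        ext z
        rw [coeff_conjAlg]
        have hconj : (s₀.coeff (y⁻¹ * z * y)) = s₀.coeff z := by
          rw [hs₀, coeff_redFun, coeff_redFun]
          refine congrArg red (Subtype.ext ?_)
          show a (y⁻¹ * z * y) = a z
          simpa using hal.1 z y⁻¹
        have hiff : y⁻¹ * z * y ∈ Subgroup.centralizer (D : Set G) ↔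
            z ∈ Subgroup.centralizer (D : Set G) := by
          simpa using conj_mem_centralizer_iff (inv_mem hyN) z
        by_cases hz : z ∈ Subgroup.centralizer (D : Set G)
        · rw [coeff_cut_of_mem _ hz, coeff_cut_of_mem _ (hiff.2 hz), hconj]
        · rw [coeff_cut_of_notMem _ hz, coeff_cut_of_notMem _ (mt hiff.1 hz)]
      rw [← e1, ← e2, ← map_mul, ← hθ, h, map_zero]
    · conv_lhs => rw [← hs₀Z.2]
      rw [cut_mul p hDp (isFixedBy_blockIdem hB D) (hfixD s₀ hs₀Z.1), mul_assoc,
        (Blocks.commute_pairIdem_of_cut hh (cut_cut_self _ s₀)).eq, ← mul_assoc,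
        (Blocks.commute_pairIdem_of_cut hh (cut_cut_self _ (blockIdem hB))).eq, h1, zero_mul]
  -- the map is injective on the centre of the block
  set K := blockCenter hB ⊓ LinearMap.ker θ with hK
  have hK0 : K = ⊥ := by
    by_contra hne
    let μ : MonoidAlgebra (ResField M) G → ℕ := fun z =>
      finrank (ResField M) ((blockCenter hB).map (LinearMap.mulLeft (ResField M) z))
    obtain ⟨z₁, hz₁, hz₁0⟩ := (Submodule.ne_bot_iff _).1 hne
    have hex : ∃ m, ∃ z ∈ K, z ≠ 0 ∧ μ z = m := ⟨_, z₁, hz₁, hz₁0, rfl⟩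
    obtain ⟨t, ⟨htZ, htθ⟩, ht0, htm⟩ := Nat.find_spec hex
    have hkill : ∀ j ∈ blockCenter hB, IsNilpotent j → j * t = 0 := by
      intro j hj hjn
      by_contra hjt
      have hjtK : j * t ∈ K := ⟨mul_mem_blockCenter hj htZ, by
        rw [SetLike.mem_coe, LinearMap.mem_ker, hθmul j hj t htZ, LinearMap.mem_ker.1 htθ,
          mul_zero]⟩
      refine Nat.find_min hex (m := μ (j * t)) ?_ ⟨j * t, hjtK, hjt, rfl⟩
      rw [← htm]
      refine Submodule.finrank_lt_finrank_of_lt (lt_of_le_of_ne ?_ fun heq => ht0 ?_)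
      · rintro _ ⟨z, hz, rfl⟩
        refine ⟨j * z, mul_mem_blockCenter hj hz, ?_⟩
        simp only [LinearMap.mulLeft_apply]
        rw [← mul_assoc, htZ.1 j]
      · have h1 : t ∈ (blockCenter hB).map (LinearMap.mulLeft (ResField M) (j * t)) := by
          rw [heq]
          exact ⟨blockIdem hB, blockIdem_mem_blockCenter hB, by
            rw [LinearMap.mulLeft_apply, ← htZ.1, htZ.2]⟩
        obtain ⟨z, hz, hzt⟩ := h1
        rw [LinearMap.mulLeft_apply, ← htZ.1 j |>.symm, mul_assoc] at hzt
        have hpow : ∀ m : ℕ, t * (j * z) ^ m = t := by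
          intro m
          induction m with
          | zero => rw [pow_zero, mul_one]
          | succ m ih => rw [pow_succ', ← mul_assoc, hzt, ih]
        obtain ⟨m, hm⟩ : IsNilpotent (j * z) :=
          Commute.isNilpotent_mul_right (show Commute j z from hz.1 j) hjn
        rw [← hpow m, hm, mul_zero]
    obtain ⟨c, hc⟩ := socle_line hpM hB hf htZ hs₀Z hkill hs₀k ht0
    exact hθs₀ (by rw [hc, map_smul, LinearMap.mem_ker.1 htθ, smul_zero])
  -- dimensions
  let ι : MonoidAlgebra (ResField M) (Subgroup.centralizer (D : Set G)) →ₗ[ResField M]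
      MonoidAlgebra (ResField M) G :=
    { toFun := incl M (Subgroup.centralizer (D : Set G))
      map_add' := map_add _
      map_smul' := fun c z => by
        apply MonoidAlgebra.ext
        ext y
        by_cases hy : y ∈ Subgroup.centralizer (D : Set G)
        · have e : ∀ w : MonoidAlgebra (ResField M) (Subgroup.centralizer (D : Set G)),
              (incl M (Subgroup.centralizer (D : Set G)) w).coeff y = w.coeff ⟨y, hy⟩ :=
            fun w => coeff_incl w ⟨y, hy⟩
          simp [e]
        · rw [coeff_incl_of_notMem _ hy]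
          simp [coeff_incl_of_notMem _ hy] }
  have hι : ∀ z, ι z = incl M (Subgroup.centralizer (D : Set G)) z := fun _ => rfl
  set Y := (blockCenter he).map ι with hY
  have hsub : (blockCenter hB).map θ ≤ Y := by
    rintro _ ⟨z, hz, rfl⟩
    obtain ⟨w, hw⟩ := exists_incl_eq_of_cut (M := M)
      (cut_cut_self (Subgroup.centralizer (D : Set G) : Set G) z)
    refine ⟨w * blockIdem he, ⟨fun y => ?_, ?_⟩, ?_⟩
    · have h1 : y * w = w * y := by
        apply incl_injective (M := M)
        rw [map_mul, map_mul, hw]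
        conv_lhs => rw [sum_single_coeff y, map_sum, Finset.sum_mul]
        conv_rhs => rw [sum_single_coeff y, map_sum, Finset.mul_sum]
        refine Finset.sum_congr rfl fun c _ => ?_
        have h2 := isFixedBy_iff_commute.1
          (isFixedBy_cut (R := D) (P := Subgroup.centralizer (D : Set G))
            ((isFixedBy_iff_commute (P := Subgroup.centralizer (D : Set G))).2
              fun u _ => (hz.1 _).symm)
            (centralizer_le_normalizer' D)) (c : G) c.2
        have e : incl M (Subgroup.centralizer (D : Set G))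
            (MonoidAlgebra.single c (y.coeff c)) =
            y.coeff c • MonoidAlgebra.single (c : G) (1 : ResField M) := by
          rw [MonoidAlgebra.smul_single', mul_one]
          simp [incl]
        rw [e, smul_mul_assoc, mul_smul_comm, h2.eq]
      rw [← mul_assoc, h1, mul_assoc, ← (commute_blockIdem he y).eq, ← mul_assoc]
    · rw [← mul_assoc, (commute_blockIdem he w).eq, mul_assoc, blockIdem_mul_self]
    · rw [hι, map_mul, hw, ← pairIdem_eq_incl, hθ]
  have hdim : finrank (ResField M) ((blockCenter hB).map θ) = Nat.card B := by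
    rw [← finrank_blockCenter hB]
    have hinj : Function.Injective (θ.domRestrict (blockCenter hB)) := by
      refine (injective_iff_map_eq_zero _).2 fun z hz => Subtype.ext ?_
      have : (z : MonoidAlgebra (ResField M) G) ∈ K := ⟨z.2, hz⟩
      rwa [hK0, Submodule.mem_bot] at this
    rw [← LinearMap.finrank_range_of_inj hinj, LinearMap.range_domRestrict]
  have heqY : (blockCenter hB).map θ = Y := by
    refine Submodule.eq_of_le_of_finrank_le hsub ?_
    rw [hdim]
    refine le_trans (Submodule.finrank_map_le _ _) ?_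
    rw [finrank_blockCenter]
    refine le_trans (card_pair_le hM hmax hab) ?_
    rw [BlockOrth.card_defectGroup hpM hB hD]
    obtain ⟨χ', hχ'⟩ := Blocks.IsPBlock.nonempty hB
    haveI : Nonempty B := ⟨⟨χ', hχ'⟩⟩
    exact Nat.le_of_dvd Nat.card_pos hdvd
  -- the stabilizer fixes the defect group
  obtain ⟨hxN, -⟩ := (mem_stabPair_iff he).1 hx
  have hxε : conjAlg x (pairIdem he) = pairIdem he := by
    have e0 := pairE_conjPair (a := (⟨D, ε⟩ : BrauerPairIdx G)) he x
    rwa [show conjPair x (⟨D, ε⟩ : BrauerPairIdx G) = ⟨D, ε⟩ from hx,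
      pairE_eq (a := (⟨D, ε⟩ : BrauerPairIdx G)) he] at e0
  have hfixY : ∀ y ∈ Y, conjAlg x y = y := by
    rw [← heqY]
    rintro _ ⟨z, hz, rfl⟩
    rw [hθ, map_mul, hxε]
    congr 1
    apply MonoidAlgebra.ext
    ext y
    rw [coeff_conjAlg]
    have hconj : z.coeff (x⁻¹ * y * x) = z.coeff y := by
      simpa using ((isFixedBy_iff_commute (P := (⊤ : Subgroup G))).2
        fun u _ => (hz.1 _).symm) x⁻¹ (Subgroup.mem_top _) y
    have hiff : x⁻¹ * y * x ∈ Subgroup.centralizer (D : Set G) ↔
        y ∈ Subgroup.centralizer (D : Set G) := by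
      simpa using conj_mem_centralizer_iff (inv_mem hxN) y
    by_cases hy : y ∈ Subgroup.centralizer (D : Set G)
    · rw [coeff_cut_of_mem _ hy, coeff_cut_of_mem _ (hiff.2 hy), hconj]
    · rw [coeff_cut_of_notMem _ hy, coeff_cut_of_notMem _ (mt hiff.1 hy)]
  rw [Subgroup.mem_centralizer_iff]
  intro d hd
  set d' := x * d * x⁻¹ with hd'def
  have hd' : d' ∈ D := (Subgroup.mem_normalizer_iff.1 hxN d).1 hd
  have hmemY : MonoidAlgebra.single d (1 : ResField M) * pairIdem he ∈ Y := by
    refine ⟨MonoidAlgebra.single (⟨d, hDC hd⟩ : Subgroup.centralizer (D : Set G)) 1 *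
      blockIdem he, ⟨fun y => ?_, ?_⟩, ?_⟩
    · have hz : Commute y (MonoidAlgebra.single (⟨d, hDC hd⟩ : Subgroup.centralizer (D : Set G))
          (1 : ResField M)) := by
        rw [sum_single_coeff y]
        refine Commute.sum_left _ _ _ fun c _ => ?_
        show _ * _ = _ * _
        rw [MonoidAlgebra.single_mul_single, MonoidAlgebra.single_mul_single, one_mul, mul_one]
        congr 1
        exact Subtype.ext (Subgroup.mem_centralizer_iff.1 c.2 d hd).symm
      exact (hz.mul_right (commute_blockIdem he y).symm).eq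
    · rw [← mul_assoc, (commute_blockIdem he _).eq, mul_assoc, blockIdem_mul_self]
    · rw [hι, map_mul, ← pairIdem_eq_incl]
      congr 1
      simp [incl]
  have hfx := hfixY _ hmemY
  rw [map_mul, hxε] at hfx
  have hsing : conjAlg x (MonoidAlgebra.single d (1 : ResField M)) = MonoidAlgebra.single d' 1 := by
    simp [conjAlg, hd'def]
  rw [hsing] at hfx
  obtain ⟨g, hg⟩ : ∃ g, (pairIdem he).coeff g ≠ 0 := by
    by_contra hno
    simp only [not_exists, not_not] at hno
    exact pairIdem_ne_zero he (MonoidAlgebra.ext (Finsupp.ext fun g => by simpa using hno g))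
  have h1 := congrArg (fun z : MonoidAlgebra (ResField M) G => z.coeff (d * g)) hfx
  simp only [MonoidAlgebra.coeff_single_mul_apply, one_mul, inv_mul_cancel_left] at h1
  have hregul : ∀ y, (pairIdem he).coeff y ≠ 0 →
      y ∈ Subgroup.centralizer (D : Set G) ∧ ¬ p ∣ orderOf y := by
    intro y hy
    rw [Ne, coeff_pairIdem_eq_zero_iff] at hy
    have hyC : y ∈ Subgroup.centralizer (D : Set G) := by
      by_contra h
      exact hy (by rw [subgroupBlockCoeff_of_notMem _ h]; exact MemLocalIdeal.zero')
    refine ⟨hyC, fun hdiv => hy ?_⟩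
    rw [show y = ((⟨y, hyC⟩ : Subgroup.centralizer (D : Set G)) : G) from rfl,
      subgroupBlockCoeff_coe, blockCoeff_eq_zero_of_dvd hp hpM he
        (by rw [← Subgroup.orderOf_coe]; exact hdiv)]
    exact MemLocalIdeal.zero'
  obtain ⟨hgC, hgr⟩ := hregul g hg
  obtain ⟨-, hgr'⟩ := hregul (d'⁻¹ * (d * g)) (h1.symm ▸ hg)
  set z := d'⁻¹ * d with hz
  have hzD : z ∈ D := D.mul_mem (inv_mem hd') hd
  have hzg : Commute z g := Subgroup.mem_centralizer_iff.1 hgC z hzD
  have hz1 : z = 1 := by
    obtain ⟨m, hm⟩ := IsPGroup.iff_orderOf.1 hDp ⟨z, hzD⟩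
    rw [Subgroup.orderOf_mk] at hm
    by_contra hne
    have hm0 : m ≠ 0 := fun h => hne (orderOf_eq_one_iff.1 (by rw [hm, h, pow_zero]))
    apply hgr'
    rw [← mul_assoc, ← hz, hzg.orderOf_mul_eq_mul_orderOf_of_coprime
      (hm ▸ Nat.Coprime.pow_left m (hp.coprime_iff_not_dvd.2 hgr)), hm]
    exact dvd_mul_of_dvd_left (dvd_pow_self p hm0) _
  rw [hz, inv_mul_eq_one, hd'def, mul_inv_eq_iff_eq_mul] at hz1
  exact hz1.symm

end CfsgLib.EqualDegree
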