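import Cfsg.Agent.Lib.Blocks.InertialQuotient
import Cfsg.Agent.Lib.Blocks.NilpotentFusion
import Cfsg.Agent.Lib.Blocks.StarTau
import Cfsg.Agent.Lib.Blocks.CyclicBound
import Cfsg.Agent.Lib.BlockOrth.NormalCentralizer

/-!
# Nilpotency of a block with a normal defect group

It is enough that the `p`-regular elements of the stabilizer of a pair on the defect group
centralize it.
-/

set_option autoImplicit false
set_option linter.unusedSectionVars false
set_option linter.style.haveILetI false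

namespace CfsgLib.EqualDegree

open Cfsg CfsgLib.Blocks CfsgLib.Chars

variable {G : Type*} [Group G] [Fintype G] {M : Ideal AlgInt} [M.IsPrime] {p : ℕ} [Fact p.Prime]
  {B : Set (IrrCharacter G)}

theorem mem_normalizer_of_normal {D : Subgroup G} [D.Normal] (x : G) :
    x ∈ Subgroup.normalizer (D : Set G) := by
  rw [Subgroup.normalizer_eq_top]; exact Subgroup.mem_top x

/-- The idempotent of a block lives on the centralizer of a normal `p`-subgroup. -/
theorem cut_blockIdem_of_normal (hpM : (p : AlgInt) ∈ M) (hB : IsPBlock M B) {D : Subgroup G}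
    [D.Normal] (hDp : IsPGroup p D) {X : Set G}
    (hX : (Subgroup.centralizer (D : Set G) : Set G) ⊆ X) :
    cut X (blockIdem hB) = blockIdem hB := by
  rw [cut_eq_self_iff]
  intro g hg
  rw [coeff_blockIdem_eq_zero_iff, BlockOrth.blockCoeff_eq_zero_of_notMem_centralizer hpM hDp hB
    fun h => hg (hX h)]
  exact MemLocalIdeal.zero'

/-- Two pairs on one group with a common nonzero product are equal. -/
theorem pairIdem_eq_of_mul_ne_zero {D : Subgroup G}
    {e e' : Set (IrrCharacter (Subgroup.centralizer (D : Set G)))} (he : IsPBlock M e)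
    (he' : IsPBlock M e') (h : pairIdem he * pairIdem he' ≠ 0) : e = e' :=
  by_contra fun hne => h (pairIdem_mul_of_ne he he' hne)

theorem pairE_mul_of_ne {D : Subgroup G} {a b : BrauerPairIdx G} (hA : a.1 = D) (hA' : b.1 = D)
    (hα : IsPBlock M a.2) (hβ : IsPBlock M b.2) (hne : a ≠ b) :
    pairE M a * pairE M b = 0 := by
  obtain ⟨A, α⟩ := a
  obtain ⟨A', β⟩ := b
  simp only at hA hA'
  subst hA hA'
  rw [pairE_eq hα, pairE_eq hβ]
  exact pairIdem_mul_of_ne hα hβ fun h => hne (congrArg (fun z => (⟨_, z⟩ : BrauerPairIdx G)) h)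

/-- **The criterion for nilpotency with a normal defect group.** -/
theorem isNilpotentBlock_of_normal (hpM : (p : AlgInt) ∈ M) (hB : IsPBlock M B) {D : Subgroup G}
    [D.Normal] (hD : IsDefectGroup p M B D)
    {e : Set (IrrCharacter (Subgroup.centralizer (D : Set G)))} (he : IsBrauerPairOf p M B D e)
    (hreg : ∀ x ∈ stabPair (⟨D, e⟩ : BrauerPairIdx G), IsPRegular p x →
      x ∈ Subgroup.centralizer (D : Set G)) : IsNilpotentBlock p M B := by
  classical
  have hp : p.Prime := Fact.out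
  have hDp : IsPGroup p D := IsDefectGroup.isPGroup hD
  have hmax := isMaximal_of_defectGroup hpM hD he
  refine ⟨hB, fun Q h hQh x hxN hxS hx => ?_⟩
  have hh : IsPBlock M h := hQh.1.2
  have hQD : Q ≤ D := by
    obtain ⟨y, hy⟩ := exists_conj_below hpM (a := ⟨Q, h⟩) (b := ⟨D, e⟩) hmax hQh
    intro u hu
    have h1 : y * u * y⁻¹ ∈ D := below_le hy ⟨u, hu, rfl⟩
    simpa [mul_assoc] using Subgroup.Normal.conj_mem inferInstance _ h1 y⁻¹
  have hCC : Subgroup.centralizer (D : Set G) ≤ Subgroup.centralizer (Q : Set G) :=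
    centralizer_antitone hQD
  have hhB : pairIdem hh * blockIdem hB = pairIdem hh := by
    have h1 := (isBrauerPairOf_iff hpM hQh.1 hB).1.1 hQh
    rwa [cut_blockIdem_of_normal hpM hB hDp (fun u hu => hCC hu)] at h1
  -- a pair on the defect group meeting `h`
  obtain ⟨f, hf, hfB, hne⟩ : ∃ (f : Set (IrrCharacter (Subgroup.centralizer (D : Set G))))
      (hf : IsPBlock M f), IsBrauerPairOf p M B D f ∧ pairIdem hh * pairIdem hf ≠ 0 := by
    by_contra hcon
    simp only [not_exists, not_and, not_not] at hcon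
    refine pairIdem_ne_zero hh ?_
    rw [← hhB, ← mul_one (blockIdem hB), ← sum_pairIdem (M := M)
      (blockFinset M (Subgroup.centralizer (D : Set G))) rfl
      (fun h => if hh : IsPBlock M h then pairIdem hh else 0) (fun h hh => dif_pos hh),
      Finset.mul_sum, Finset.mul_sum]
    refine Finset.sum_eq_zero fun f' hf' => ?_
    have hf := mem_blockFinset.1 hf'
    rw [dif_pos hf, (commute_blockIdem hB _).eq, ← mul_assoc]
    rcases (isBrauerPairOf_iff hpM ⟨hDp, hf⟩ hB).2 with h1 | h1
    · rw [hcon f' hf ((isBrauerPairOf_iff hpM ⟨hDp, hf⟩ hB).1.2 h1), zero_mul]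
    · rw [cut_blockIdem_of_normal hpM hB hDp le_rfl] at h1
      rw [mul_assoc, h1, mul_zero]
  set a₀ : BrauerPairIdx G := ⟨D, f⟩ with ha₀
  set T : Finset (BrauerPairIdx G) :=
    (Finset.univ : Finset G).filter (· ∈ Subgroup.centralizer (Q : Set G)) |>.image
      fun c => conjPair c a₀ with hT
  have hTmem : ∀ a, a ∈ T ↔ ∃ c ∈ Subgroup.centralizer (Q : Set G), conjPair c a₀ = a :=
    fun a => by simp [hT]
  have hTblock : ∀ a ∈ T, IsPBlock M a.2 := fun a ha => by
    obtain ⟨c, -, rfl⟩ := (hTmem a).1 ha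
    exact isPBlock_conjBlock hf c
  have hfst : ∀ y : G, (conjPair y a₀).1 = D := fun y =>
    Subgroup.mem_normalizer_iff_map_conj_eq.1 (mem_normalizer_of_normal y)
  have hmul0 : ∀ (y : G), conjPair y a₀ ∉ T → ∀ a ∈ T,
      pairE M a * pairE M (conjPair y a₀) = 0 := by
    intro y hy a ha
    obtain ⟨c, -, rfl⟩ := (hTmem a).1 ha
    exact pairE_mul_of_ne (hfst c) (hfst y) (isPBlock_conjBlock hf c) (isPBlock_conjBlock hf y)
      fun h => hy (h ▸ ha)
  set β : G → ℂ := fun g => ∑ a ∈ T, pairCoeff a g with hβdef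
  have hβ : ∀ g, β g ∈ loc M := fun g => sum_mem fun a ha =>
    subgroupBlockCoeff_mem_loc (hTblock a ha) g
  have hβred : redFun β hβ = ∑ a ∈ T, pairE M a := by
    apply MonoidAlgebra.ext
    ext g
    rw [MonoidAlgebra.coeff_sum, Finsupp.finsetSum_apply, coeff_redFun]
    rw [show (⟨β g, hβ g⟩ : loc M) = ∑ a ∈ T.attach,
        ⟨pairCoeff a.1 g, subgroupBlockCoeff_mem_loc (hTblock a.1 a.2) g⟩ from Subtype.ext (by
      rw [AddSubmonoidClass.coe_finsetSum]
      exact (Finset.sum_attach T fun a => pairCoeff a g).symm), map_sum,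
      ← Finset.sum_attach T fun a => (pairE M a).coeff g]
    refine Finset.sum_congr rfl fun a _ => ?_
    rw [pairE_eq (hTblock a.1 a.2), coeff_pairIdem]
    rfl
  have hidem : redFun β hβ * redFun β hβ = redFun β hβ := by
    rw [hβred, Finset.sum_mul]
    refine Finset.sum_congr rfl fun a ha => ?_
    rw [Finset.mul_sum, Finset.sum_eq_single a]
    · rw [pairE_eq (hTblock a ha), pairIdem_mul_self]
    · intro b hb hne
      obtain ⟨c, -, rfl⟩ := (hTmem a).1 ha
      obtain ⟨c', -, rfl⟩ := (hTmem b).1 hb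
      exact pairE_mul_of_ne (hfst c) (hfst c') (isPBlock_conjBlock hf c) (isPBlock_conjBlock hf c')
        (Ne.symm hne)
    · exact fun h => absurd ha h
  have hCinv : ∀ u ∈ Subgroup.centralizer (Q : Set G), ∀ g, β (u * g * u⁻¹) = β g := by
    intro u hu g
    simp only [hβdef]
    refine Finset.sum_nbij' (fun a => conjPair u⁻¹ a) (fun a => conjPair u a) ?_ ?_ ?_ ?_ ?_
    · intro a ha
      obtain ⟨c, hc, rfl⟩ := (hTmem a).1 ha
      exact (hTmem _).2 ⟨u⁻¹ * c, mul_mem (inv_mem hu) hc, (conjPair_mul _ _ _).symm⟩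
    · intro a ha
      obtain ⟨c, hc, rfl⟩ := (hTmem a).1 ha
      exact (hTmem _).2 ⟨u * c, mul_mem hu hc, (conjPair_mul _ _ _).symm⟩
    · intro a _; rw [conjPair_mul, mul_inv_cancel, conjPair_one]
    · intro a _; rw [conjPair_mul, inv_mul_cancel, conjPair_one]
    · intro a _; rw [pairCoeff_conjPair, inv_inv]
  have hQinv : ∀ u ∈ Q, ∀ g, β (u * g * u⁻¹) = β g := by
    intro u hu g
    simp only [hβdef]
    refine Finset.sum_congr rfl fun a ha => ?_
    obtain ⟨c, -, rfl⟩ := (hTmem a).1 ha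
    have h1 : u⁻¹ ∈ stabPair (conjPair c a₀) := by
      refine subgroup_le_stabPair hpM ⟨?_, isPBlock_conjBlock hf c⟩ ?_
      · show IsPGroup p (conjPair c a₀).1
        rw [hfst c]; exact hDp
      · show u⁻¹ ∈ (conjPair c a₀).1
        rw [hfst c]; exact inv_mem (hQD hu)
    have h2 := congrArg (fun a => pairCoeff a g)
      (show conjPair u⁻¹ (conjPair c a₀) = conjPair c a₀ from h1)
    skip
    rw [pairCoeff_conjPair, inv_inv] at h2
    exact h2
  have hcut : cut (Subgroup.centralizer (Q : Set G) : Set G) (redFun β hβ) = redFun β hβ := by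
    rw [hβred, cut_sum]
    refine Finset.sum_congr rfl fun a ha => ?_
    obtain ⟨c, -, rfl⟩ := (hTmem a).1 ha
    rw [pairE_eq (isPBlock_conjBlock hf c), cut_eq_self_iff]
    intro g hg
    refine (coeff_pairIdem_eq_zero_iff _ g).2 ?_
    rw [subgroupBlockCoeff_of_notMem _ fun h' => hg (hCC ?_)]
    · exact MemLocalIdeal.zero'
    · have h'' : g ∈ Subgroup.centralizer
          (((conjPair c a₀).1 : Subgroup G) : Set G) := h'
      rwa [hfst c] at h''
  have hTall : pairIdem hh * redFun β hβ = pairIdem hh := by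
    rcases (brauerOmega_dichotomy hpM hQh.1.1 hβ hQinv hCinv hidem hh).2 with h1 | h1
    · rwa [hcut] at h1
    · rw [hcut] at h1
      exfalso
      apply hne
      have h2 : redFun β hβ * pairIdem hf = pairIdem hf := by
        have ha₀T : a₀ ∈ T := (hTmem a₀).2 ⟨1, one_mem _, conjPair_one a₀⟩
        rw [hβred, Finset.sum_mul, Finset.sum_eq_single a₀]
        · rw [pairE_eq (a := a₀) hf, pairIdem_mul_self]
        · intro b hb hne
          obtain ⟨c, -, rfl⟩ := (hTmem b).1 hb
          rw [← pairE_eq (a := a₀) hf]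
          exact pairE_mul_of_ne (hfst c) (rfl : a₀.1 = D) (isPBlock_conjBlock hf c) hf hne
        · exact fun h => absurd ha₀T h
      rw [← h2, ← mul_assoc, h1, zero_mul]
  have hxa : conjPair x a₀ ∈ T := by
    by_contra hno
    have h1 : conjAlg x (pairIdem hh) = pairIdem hh :=
      conjAlg_pairIdem hh hh x fun g => by
        have h2 := ((stabilizesBlock_iff hh).1 hxS).2 (x⁻¹ * g * x)
        simpa [mul_assoc] using h2
    have h2 : pairIdem hh * pairE M (conjPair x a₀) ≠ 0 := by
      rw [← h1, ← pairE_conjPair (a := a₀) hf, pairE_eq (a := a₀) hf, ← map_mul]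
      intro h0
      apply hne
      have h4 := congrArg (conjAlg x⁻¹) h0
      rw [map_zero, conjAlg_eq, conjAlg_eq, inv_inv] at h4
      simpa only [mul_assoc, ← mul_assoc (MonoidAlgebra.single x⁻¹ (1 : ResField M)),
        MonoidAlgebra.single_mul_single, inv_mul_cancel, one_mul, ← MonoidAlgebra.one_def,
        mul_one] using h4
    refine h2 ?_
    rw [← hTall, mul_assoc, hβred, Finset.sum_mul,
      Finset.sum_eq_zero fun a ha => hmul0 x hno a ha, mul_zero]
  obtain ⟨c, hc, hcx⟩ := (hTmem _).1 hxa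
  have hstab : c⁻¹ * x ∈ stabPair a₀ := by
    show conjPair (c⁻¹ * x) a₀ = a₀
    rw [← conjPair_mul, ← hcx, conjPair_mul, inv_mul_cancel, conjPair_one]
  obtain ⟨y, -, hy⟩ := exists_conj_pair_same_group hpM hmax hfB
  have hreg' : ∀ w ∈ stabPair a₀, IsPRegular p w → w ∈ Subgroup.centralizer (D : Set G) := by
    intro w hw hwr
    have h1 : y * (y⁻¹ * w * y) * y⁻¹ ∈ stabPair (conjPair y (⟨D, e⟩ : BrauerPairIdx G)) := by
      rw [hy, show y * (y⁻¹ * w * y) * y⁻¹ = w by group]
      exact hw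
    have h2 := hreg _ ((conj_mem_stabPair_iff _ y _).1 h1) (by
      show ¬ p ∣ orderOf (y⁻¹ * w * y)
      rw [(SemiconjBy.conj_mk y (y⁻¹ * w * y)).orderOf_eq,
        show y * (y⁻¹ * w * y) * y⁻¹ = w by group]
      exact hwr)
    have h3 := (conj_mem_centralizer_iff (mem_normalizer_of_normal (D := D) y)
      (y⁻¹ * w * y)).2 h2
    rwa [show y * (y⁻¹ * w * y) * y⁻¹ = w by group] at h3
  set m := p ^ (orderOf (c⁻¹ * x)).factorization p with hm
  have hpow := hCC (hreg' _ (pow_mem hstab m) (isPRegular_pow_ordProj _))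
  have hmod : ∀ k : ℕ, (c⁻¹ * x) ^ k * (x ^ k)⁻¹ ∈ Subgroup.centralizer (Q : Set G) := by
    intro k
    induction k with
    | zero => simp
    | succ k ih =>
      have e : (c⁻¹ * x) ^ (k + 1) * (x ^ (k + 1))⁻¹ =
          c⁻¹ * (x * ((c⁻¹ * x) ^ k * (x ^ k)⁻¹) * x⁻¹) := by
        rw [pow_succ', pow_succ']; group
      rw [e]
      exact mul_mem (inv_mem hc) ((conj_mem_centralizer_iff hxN _).2 ih)
  have hxm : x ^ m ∈ Subgroup.centralizer (Q : Set G) := by
    have h1 := mul_mem (inv_mem (hmod m)) hpow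
    simpa [mul_inv_rev, mul_assoc] using h1
  obtain ⟨k, hk⟩ := exists_pow_eq_self_of_coprime (n := m) (x := x)
    (hm ▸ Nat.Coprime.pow_left _ (hp.coprime_iff_not_dvd.2 hx))
  rw [← hk]
  exact pow_mem hxm k

end CfsgLib.EqualDegree
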