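import Cfsg.Agent.Lib.Blocks.EqualDegree.Nilpotent
import Cfsg.Agent.Lib.Blocks.EqualDegree.NormalDefect
import Cfsg.Agent.Lib.Blocks.QuotientDefect
import Cfsg.Agent.Lib.Blocks.QuotientDerived
import Cfsg.Agent.Lib.Blocks.NormalHeights

/-!
# Equal height zero degrees and a normal defect group

The quotient by the derived subgroup of the defect group has a block with abelian defect group and
equal degrees, which is nilpotent; its stabilizer of a pair contains that of the block.
-/

set_option autoImplicit false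
set_option linter.unusedSectionVars false
set_option linter.style.haveILetI false

namespace CfsgLib.EqualDegree

open Cfsg CfsgLib.Blocks CfsgLib.Chars

universe u

variable {G : Type u} [Group G] [Fintype G] {M : Ideal AlgInt} [M.IsPrime] {p : ℕ} [Fact p.Prime]
  {B : Set (IrrCharacter G)} {d : ℕ}

section proj

variable (N : Subgroup G) [N.Normal] [Fintype (G ⧸ N)]

variable (M) in
/-- The map of group algebras to the quotient. -/
noncomputable def projAlg :
    MonoidAlgebra (ResField M) G →+* MonoidAlgebra (ResField M) (G ⧸ N) :=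
  MonoidAlgebra.mapDomainRingHom (ResField M) (QuotientGroup.mk' N)

open scoped Classical in
theorem coeff_projAlg (z : MonoidAlgebra (ResField M) G) (q : G ⧸ N) :
    (projAlg M N z).coeff q = ∑ g : G, if (g : G ⧸ N) = q then z.coeff g else 0 := by
  conv_lhs => rw [sum_single_coeff z, map_sum]
  rw [MonoidAlgebra.coeff_sum, Finsupp.finsetSum_apply]
  refine Finset.sum_congr rfl fun g _ => ?_
  rw [show projAlg M N (MonoidAlgebra.single g (z.coeff g)) =
    MonoidAlgebra.single (g : G ⧸ N) (z.coeff g) by simp [projAlg]]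
  rw [MonoidAlgebra.coeff_single, Finsupp.single_apply]

theorem conjAlg_projAlg (x : G) (z : MonoidAlgebra (ResField M) G) :
    conjAlg (x : G ⧸ N) (projAlg M N z) = projAlg M N (conjAlg x z) := by
  rw [conjAlg_eq, conjAlg_eq, map_mul, map_mul]
  simp [projAlg]

end proj

/-- **The `p`-regular stabilizer of a pair centralizes the defect group.** -/
theorem exists_pair_regular_stab (hM : IsPModular p M) (hB : IsPBlock M B) {D : Subgroup G}
    [D.Normal] (hD : IsDefectGroup p M B D)
    (hdeg : ∀ χ : IrrCharacter G, χ ∈ B → blockHeight p B (χ : G → ℂ) = 0 →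
      charDegree (χ : G → ℂ) = d) :
    ∃ e, IsBrauerPairOf p M B D e ∧ ∀ x ∈ stabPair (⟨D, e⟩ : BrauerPairIdx G), IsPRegular p x →
      x ∈ Subgroup.centralizer (D : Set G) := by
  classical
  have hp : p.Prime := Fact.out
  have hpM := hM.2.2
  haveI := charP_resField (M := M) hp hpM
  have hDp : IsPGroup p D := IsDefectGroup.isPGroup hD
  set N : Subgroup G := ⁅D, D⁆ with hN
  have hND : N ≤ D := Subgroup.commutator_le_self D
  have hNp : IsPGroup p N := hDp.to_le hND
  haveI := Fintype.ofFinite (G ⧸ N)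
  obtain ⟨Bb, hBb, hsub, hdef⟩ := exists_quotient_block N hpM hNp hB
  set Db : Subgroup (G ⧸ N) := D.map (QuotientGroup.mk' N) with hDbdef
  haveI : Db.Normal := Subgroup.Normal.map inferInstance _ (QuotientGroup.mk'_surjective N)
  have hDb : IsDefectGroup p M Bb Db := (hdef _).2 ⟨D, hD, rfl⟩
  have hab : ∀ x ∈ Db, ∀ y ∈ Db, x * y = y * x := by
    rintro _ ⟨a, ha, rfl⟩ _ ⟨b, hb, rfl⟩
    rw [← map_mul, ← map_mul, QuotientGroup.mk'_apply, QuotientGroup.mk'_apply, QuotientGroup.eq]
    have h1 := Subgroup.commutator_mem_commutator (D.inv_mem hb) (D.inv_mem ha)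
    rw [hN, show (a * b)⁻¹ * (b * a) = b⁻¹ * a⁻¹ * b⁻¹⁻¹ * a⁻¹⁻¹ by group]
    exact h1
  -- the degrees
  have hfacB : BlockOrth.blockMin p B = D.index.factorization p := by
    have h1 := BlockOrth.blockMin_add_blockDefect (p := p) (IsPBlock.nonempty hB)
    have h2 := congrArg (fun n : ℕ => n.factorization p) D.card_mul_index
    rw [Nat.factorization_mul Nat.card_pos.ne' Subgroup.index_ne_zero_of_finite,
      Finsupp.add_apply, BlockOrth.card_defectGroup hpM hB hD, hp.factorization_pow,
      Finsupp.single_eq_same] at h2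
    omega
  have hfacb : BlockOrth.blockMin p Bb = D.index.factorization p := by
    have h1 := BlockOrth.blockMin_add_blockDefect (p := p) (IsPBlock.nonempty hBb)
    have h2 := congrArg (fun n : ℕ => n.factorization p) Db.card_mul_index
    rw [Nat.factorization_mul Nat.card_pos.ne' Subgroup.index_ne_zero_of_finite,
      Finsupp.add_apply, BlockOrth.card_defectGroup hpM hBb hDb, hp.factorization_pow,
      Finsupp.single_eq_same] at h2
    have h3 : Db.index = D.index := by
      rw [hDbdef, Subgroup.index_map_eq D (QuotientGroup.mk'_surjective N)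
        (by rw [QuotientGroup.ker_mk']; exact hND)]
    rw [h3] at h2
    omega
  have hall : ∀ ψ ∈ Bb, blockHeight p Bb (ψ : G ⧸ N → ℂ) = 0 :=
    (normal_defect_abelian_iff hM hBb hDb).1 hab
  have hf : ∀ ψ ∈ Bb, charDegree (ψ : G ⧸ N → ℂ) = d := by
    intro ψ hψ
    have e : charDegree (inflIrr N ψ : G → ℂ) = charDegree (ψ : G ⧸ N → ℂ) := by
      simp [charDegree, inflIrr]
    rw [← e]
    refine hdeg _ (hsub ψ hψ) ((BlockOrth.blockHeight_eq_zero_iff (hsub ψ hψ)).2 ?_)
    rw [BlockOrth.degVal, e, hfacB, ← hfacb]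
    exact (BlockOrth.blockHeight_eq_zero_iff hψ).1 (hall ψ hψ)
  have hnil := isNilpotentBlock_of_equal hM hBb hDb hab hf
  obtain ⟨eb, heb⟩ := exists_pair_on_defectGroup hpM hBb hDb
  have hebb : IsPBlock M eb := heb.1.2
  haveI := Fintype.ofFinite (Subgroup.centralizer (D : Set G))
  haveI := Fintype.ofFinite (Subgroup.centralizer (Db : Set (G ⧸ N)))
  set π := projAlg M N with hπ
  -- preimages of regular elements
  have hmapC : ∀ c ∈ Subgroup.centralizer (D : Set G),
      (c : G ⧸ N) ∈ Subgroup.centralizer (Db : Set (G ⧸ N)) := by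
    intro c hc
    rw [Subgroup.mem_centralizer_iff]
    rintro _ ⟨a, ha, rfl⟩
    exact congrArg (QuotientGroup.mk' N) (Subgroup.mem_centralizer_iff.1 hc a ha)
  have hexu : ∀ q : G ⧸ N, q ∈ Subgroup.centralizer (Db : Set (G ⧸ N)) → ¬ p ∣ orderOf q →
      ∃ c ∈ Subgroup.centralizer (D : Set G), ¬ p ∣ orderOf c ∧ (c : G ⧸ N) = q := by
    intro q hqC hqr
    obtain ⟨g, rfl⟩ := QuotientGroup.mk_surjective q
    have hy := BlockOrth.isPPrimePart_pPrimePart (p := p) g
    obtain ⟨v, hv, hcomm, ⟨j, hj⟩, hyr⟩ := hy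
    have hmap : (g : G ⧸ N) = ((BlockOrth.pPrimePart p g : G) : G ⧸ N) := by
      obtain ⟨i, -, hi⟩ := (Nat.dvd_prime_pow hp).1 (hj ▸ orderOf_map_dvd (QuotientGroup.mk' N) v)
      have e1 : BlockOrth.IsPPrimePart p (g : G ⧸ N) ((BlockOrth.pPrimePart p g : G) : G ⧸ N) :=
        ⟨(v : G ⧸ N), by rw [← QuotientGroup.mk_mul, hv], hcomm.map (QuotientGroup.mk' N), ⟨i, hi⟩,
          fun h => hyr (h.trans (orderOf_map_dvd (QuotientGroup.mk' N) _))⟩
      have e2 : BlockOrth.IsPPrimePart p (g : G ⧸ N) (g : G ⧸ N) :=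
        ⟨1, one_mul _, Commute.one_left _, ⟨0, by rw [orderOf_one, pow_zero]⟩, hqr⟩
      exact BlockOrth.IsPPrimePart.unique e2 e1
    refine ⟨BlockOrth.pPrimePart p g, mem_centralizer_of_mod_derived hDp hyr fun a ha => ?_,
      hyr, hmap.symm⟩
    rw [← hN, ← QuotientGroup.eq_one_iff, QuotientGroup.mk_mul, QuotientGroup.mk_mul,
      QuotientGroup.mk_mul, QuotientGroup.mk_inv, QuotientGroup.mk_inv, ← hmap]
    have h1 := Subgroup.mem_centralizer_iff.1 hqC (a : G ⧸ N) ⟨a, ha, rfl⟩
    rw [← h1, mul_inv_cancel_right, mul_inv_cancel]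
  have huniq : ∀ c c' : G, c ∈ Subgroup.centralizer (D : Set G) → ¬ p ∣ orderOf c →
      ¬ p ∣ orderOf c' → (c : G ⧸ N) = (c' : G ⧸ N) → c = c' := by
    intro c c' hc hcr hcr' he
    have h1 : c⁻¹ * c' ∈ N := QuotientGroup.eq.1 he
    obtain ⟨i, hi⟩ := IsPGroup.iff_orderOf.1 hNp ⟨_, h1⟩
    rw [Subgroup.orderOf_mk] at hi
    have hcomm : Commute (c⁻¹ * c') c :=
      Subgroup.mem_centralizer_iff.1 hc _ (hND h1)
    have e1 : BlockOrth.IsPPrimePart p c' c :=
      ⟨c⁻¹ * c', by rw [hcomm.eq, mul_inv_cancel_left], hcomm, ⟨i, hi⟩, hcr⟩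
    have e2 : BlockOrth.IsPPrimePart p c' c' :=
      ⟨1, one_mul _, Commute.one_left _, ⟨0, by rw [orderOf_one, pow_zero]⟩, hcr'⟩
    exact BlockOrth.IsPPrimePart.unique e1 e2
  -- the lift of the idempotent of the pair of the quotient
  let a : Subgroup.centralizer (D : Set G) → ℂ := fun c =>
    if p ∣ orderOf (c : G) then 0
    else subgroupBlockCoeff (Subgroup.centralizer (Db : Set (G ⧸ N))) eb ((c : G) : G ⧸ N)
  have ha : IsLocClassFun M a := by
    refine ⟨fun c h => ?_, fun c => ?_⟩
    · simp only [a]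
      have ho : orderOf ((h * c * h⁻¹ : Subgroup.centralizer (D : Set G)) : G) = orderOf (c : G) := by
        rw [Subgroup.coe_mul, Subgroup.coe_mul, Subgroup.coe_inv]
        exact orderOf_injective (MulAut.conj (h : G)).toMonoidHom (MulAut.conj (h : G)).injective c
      rw [ho, Subgroup.coe_mul, Subgroup.coe_mul, Subgroup.coe_inv, QuotientGroup.mk_mul,
        QuotientGroup.mk_mul, QuotientGroup.mk_inv,
        subgroupBlockCoeff_conj_of_mem eb (hmapC h h.2)]
    · simp only [a]
      split_ifs
      · exact zero_mem _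
      · exact subgroupBlockCoeff_mem_loc hebb _
  set A := incl M (Subgroup.centralizer (D : Set G)) (redFun a ha.2) with hA
  have hπA : π A = pairIdem hebb := by
    apply MonoidAlgebra.ext
    ext q
    rw [hπ, coeff_projAlg]
    by_cases hq : q ∈ Subgroup.centralizer (Db : Set (G ⧸ N)) ∧ ¬ p ∣ orderOf q
    · obtain ⟨c, hcC, hcr, hcq⟩ := hexu q hq.1 hq.2
      rw [Finset.sum_eq_single c]
      · rw [if_pos hcq, hA, show c = ((⟨c, hcC⟩ : Subgroup.centralizer (D : Set G)) : G) from rfl,
          coeff_incl, coeff_redFun, coeff_pairIdem]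
        refine congrArg red (Subtype.ext ?_)
        show a ⟨c, hcC⟩ = _
        simp only [a, if_neg hcr, hcq]
      · intro g _ hg
        split_ifs with hgq
        · by_cases hgC : g ∈ Subgroup.centralizer (D : Set G)
          · have hgr : p ∣ orderOf g := by
              by_contra hgr
              exact hg (huniq g c hgC hgr hcr (hgq.trans hcq.symm))
            rw [hA, show g = ((⟨g, hgC⟩ : Subgroup.centralizer (D : Set G)) : G) from rfl,
              coeff_incl, coeff_redFun_eq_zero_iff]
            simp only [a, if_pos hgr]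
            exact MemLocalIdeal.zero'
          · rw [hA, coeff_incl_of_notMem _ hgC]
        · rfl
      · simp
    · have h0 : (pairIdem hebb).coeff q = 0 := by
        rw [coeff_pairIdem_eq_zero_iff]
        by_cases hqC : q ∈ Subgroup.centralizer (Db : Set (G ⧸ N))
        · have hqd : p ∣ orderOf q := by_contra fun h => hq ⟨hqC, h⟩
          rw [show q = ((⟨q, hqC⟩ : Subgroup.centralizer (Db : Set (G ⧸ N))) : G ⧸ N) from rfl,
            subgroupBlockCoeff_coe, blockCoeff_eq_zero_of_dvd hp hpM hebb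
              (by rw [← Subgroup.orderOf_coe]; exact hqd)]
          exact MemLocalIdeal.zero'
        · rw [subgroupBlockCoeff_of_notMem _ hqC]; exact MemLocalIdeal.zero'
      rw [h0]
      refine Finset.sum_eq_zero fun g _ => ?_
      split_ifs with hgq
      · by_cases hgC : g ∈ Subgroup.centralizer (D : Set G)
        · rw [hA, show g = ((⟨g, hgC⟩ : Subgroup.centralizer (D : Set G)) : G) from rfl,
            coeff_incl, coeff_redFun_eq_zero_iff]
          have hd : p ∣ orderOf g := by
            by_contra hgr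
            refine hq ⟨hgq ▸ hmapC g hgC, fun h => hgr ?_⟩
            rw [← hgq] at h
            exact h.trans (orderOf_map_dvd (QuotientGroup.mk' N) g)
          simp only [a, if_pos hd]
          exact MemLocalIdeal.zero'
        · rw [hA, coeff_incl_of_notMem _ hgC]
      · rfl
  have hdich : ∀ (f : Set (IrrCharacter (Subgroup.centralizer (D : Set G)))) (hf : IsPBlock M f),
      π (pairIdem hf) * pairIdem hebb = π (pairIdem hf) ∨
        π (pairIdem hf) * pairIdem hebb = 0 := by
    intro f hf
    obtain ⟨ξ, hξ⟩ := IsPBlock.nonempty hf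
    by_cases hu : MemLocalIdeal M (omega (ξ : Subgroup.centralizer (D : Set G) → ℂ) a)
    · refine Or.inr ?_
      have hn := (isLocClassFun_blockCoeff hf).conv ha
      have hnil' := isNilpotent_redFun hn fun ψ => by
        rw [omega_conv ψ (isClassFunction_blockCoeff f), omega_blockCoeff]
        by_cases hψ : ψ ∈ f
        · rw [if_pos hψ, one_mul]
          have := MemLocalIdeal.add' (omega_sub_mem (IsPBlock.sameBlock hf hψ hξ) ha) hu
          rwa [sub_add_cancel] at this
        · rw [if_neg hψ, zero_mul]; exact MemLocalIdeal.zero'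
      have e : redFun (conv (blockCoeff f) a) hn.2 = blockIdem hf * redFun a ha.2 := by
        rw [blockIdem, redFun, redFun, redFun, ← map_mul,
          toAlg_conv (blockCoeff_mem_loc hf) ha.2 hn.2]
      have hc : Commute (π (pairIdem hf)) (pairIdem hebb) := by
        rw [← hπA, pairIdem_eq_incl hf, hA]
        exact ((commute_blockIdem hf _).map _).map _
      rw [e] at hnil'
      obtain ⟨k, hk⟩ := (hnil'.map (incl M (Subgroup.centralizer (D : Set G)))).map π
      rw [map_mul, ← pairIdem_eq_incl, map_mul, ← hA, hπA] at hk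
      have hi : IsIdempotentElem (π (pairIdem hf) * pairIdem hebb) :=
        IsIdempotentElem.mul_of_commute hc
          (show π (pairIdem hf) * π (pairIdem hf) = π (pairIdem hf) by
            rw [← map_mul, pairIdem_mul_self])
          (pairIdem_mul_self hebb)
      rw [← hi.pow_succ_eq k, pow_succ, hk, zero_mul]
    · refine Or.inl ?_
      obtain ⟨w, hw, hEw⟩ := exists_blockIdem_eq_mul hf ha hξ hu
      have h1 := congrArg (fun z => π (incl M (Subgroup.centralizer (D : Set G)) z)) hEw
      simp only [map_mul, ← pairIdem_eq_incl, ← hA, hπA] at h1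
      have h2 : Commute (π (incl M (Subgroup.centralizer (D : Set G)) w)) (pairIdem hebb) := by
        rw [← hπA, hA]
        exact ((hw _).map _).map _
      conv_rhs => rw [h1]
      conv_lhs => rw [h1]
      rw [mul_assoc, h2.eq, ← mul_assoc, mul_assoc (π (pairIdem hf)), pairIdem_mul_self]
  -- the idempotent of the block over that of the quotient block
  have hBB : π (blockIdem hB) * blockIdem hBb = blockIdem hBb := by
    have hal : IsLocClassFun M (pushSum N (blockCoeff B)) :=
      ⟨isClassFunction_pushSum N (isClassFunction_blockCoeff B),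
        fun q => sum_mem fun x _ => blockCoeff_mem_loc hB x⟩
    have e : π (blockIdem hB) = redFun (pushSum N (blockCoeff B)) hal.2 := by
      apply MonoidAlgebra.ext
      ext q
      rw [hπ, coeff_projAlg, coeff_redFun, ← Finset.sum_filter]
      rw [show (⟨pushSum N (blockCoeff B) q, hal.2 q⟩ : loc M) =
          ∑ g ∈ Finset.univ.filter (fun g : G => (g : G ⧸ N) = q),
            (⟨blockCoeff B g, blockCoeff_mem_loc hB g⟩ : loc M) from Subtype.ext (by
          rw [AddSubmonoidClass.coe_finsetSum]; rfl), map_sum]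
      exact Finset.sum_congr rfl fun g _ => by rw [blockIdem, coeff_redFun]
    have hid : redFun (pushSum N (blockCoeff B)) hal.2 * redFun (pushSum N (blockCoeff B)) hal.2 =
        redFun (pushSum N (blockCoeff B)) hal.2 := by
      rw [← e, ← map_mul, blockIdem_mul_self]
    obtain ⟨ψ, hψ⟩ := IsPBlock.nonempty hBb
    rcases blockIdem_mul_dichotomy hBb hal hid hψ with ⟨-, h2⟩ | ⟨h1, -⟩
    · rw [e, ← (commute_blockIdem hBb _).eq, h2]
    · rw [omega_pushSum, omega_blockCoeff, if_pos (hsub ψ hψ)] at h1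
      exact absurd h1 not_memLocalIdeal_one
  have hebB : pairIdem hebb * blockIdem hBb = pairIdem hebb := by
    have h1 := (isBrauerPairOf_iff hpM heb.1 hBb).1.1 heb
    rwa [cut_blockIdem_of_normal hpM hBb (IsDefectGroup.isPGroup hDb) le_rfl] at h1
  have hπB : π (blockIdem hB) * pairIdem hebb = pairIdem hebb := by
    conv_lhs => rw [← hebB, ← (commute_blockIdem hBb _).eq, ← mul_assoc, hBB]
    rw [(commute_blockIdem hBb _).eq, hebB]
  obtain ⟨f, hf, hfB, hne⟩ : ∃ (f : Set (IrrCharacter (Subgroup.centralizer (D : Set G))))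
      (hf : IsPBlock M f), IsBrauerPairOf p M B D f ∧ π (pairIdem hf) * pairIdem hebb ≠ 0 := by
    by_contra hcon
    simp only [not_exists, not_and, not_not] at hcon
    refine pairIdem_ne_zero hebb ?_
    rw [← hπB, ← mul_one (blockIdem hB), ← sum_pairIdem (M := M)
      (blockFinset M (Subgroup.centralizer (D : Set G))) rfl
      (fun h => if hh : IsPBlock M h then pairIdem hh else 0) (fun h hh => dif_pos hh),
      Finset.mul_sum, map_sum, Finset.sum_mul]
    refine Finset.sum_eq_zero fun f' hf' => ?_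
    have hf := mem_blockFinset.1 hf'
    rw [dif_pos hf, (commute_blockIdem hB _).eq]
    rcases (isBrauerPairOf_iff hpM ⟨hDp, hf⟩ hB).2 with h1 | h1 <;>
      rw [cut_blockIdem_of_normal hpM hB hDp le_rfl] at h1
    · rw [h1]
      refine hcon f' hf ((isBrauerPairOf_iff hpM ⟨hDp, hf⟩ hB).1.2 ?_)
      rwa [cut_blockIdem_of_normal hpM hB hDp le_rfl]
    · rw [h1, map_zero, zero_mul]
  refine ⟨f, hfB, fun x hx hxr => ?_⟩
  have hfe := (hdich f hf).resolve_right hne
  have hfix : conjAlg x (pairIdem hf) = pairIdem hf := by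
    have e0 := pairE_conjPair (a := (⟨D, f⟩ : BrauerPairIdx G)) hf x
    rwa [show conjPair x (⟨D, f⟩ : BrauerPairIdx G) = ⟨D, f⟩ from hx,
      pairE_eq (a := (⟨D, f⟩ : BrauerPairIdx G)) hf] at e0
  set X : G ⧸ N := (x : G ⧸ N) with hX
  have hXstab : conjPair X (⟨Db, eb⟩ : BrauerPairIdx (G ⧸ N)) = ⟨Db, eb⟩ := by
    by_contra hne'
    have h1 : π (pairIdem hf) * pairE M (conjPair X (⟨Db, eb⟩ : BrauerPairIdx (G ⧸ N))) =
        π (pairIdem hf) := by
      have h2 := congrArg (conjAlg X) hfe
      rw [map_mul, hX, hπ, conjAlg_projAlg, hfix, ← hX,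
        ← pairE_eq (a := (⟨Db, eb⟩ : BrauerPairIdx (G ⧸ N))) hebb,
        pairE_conjPair (a := (⟨Db, eb⟩ : BrauerPairIdx (G ⧸ N))) hebb] at h2
      exact h2
    have h3 : pairE M (⟨Db, eb⟩ : BrauerPairIdx (G ⧸ N)) *
        pairE M (conjPair X (⟨Db, eb⟩ : BrauerPairIdx (G ⧸ N))) = 0 :=
      pairE_mul_of_ne (D := Db) rfl
        (Subgroup.mem_normalizer_iff_map_conj_eq.1 (mem_normalizer_of_normal X))
        hebb (isPBlock_conjBlock hebb X) (Ne.symm hne')
    rw [pairE_eq (a := (⟨Db, eb⟩ : BrauerPairIdx (G ⧸ N))) hebb] at h3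
    apply hne
    rw [hfe, ← h1]
    conv_lhs => arg 1; rw [← hfe]
    rw [mul_assoc, h3, mul_zero]
  obtain ⟨hXN, hXS⟩ := (mem_stabPair_iff hebb).1 hXstab
  have hXC := hnil.2 Db eb heb X hXN hXS
    fun h => hxr (h.trans (orderOf_map_dvd (QuotientGroup.mk' N) x))
  refine mem_centralizer_of_mod_derived hDp hxr fun a ha => ?_
  rw [← hN, ← QuotientGroup.eq_one_iff, QuotientGroup.mk_mul, QuotientGroup.mk_mul,
    QuotientGroup.mk_mul, QuotientGroup.mk_inv, QuotientGroup.mk_inv]
  have h1 := Subgroup.mem_centralizer_iff.1 hXC (a : G ⧸ N) ⟨a, ha, rfl⟩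
  rw [← h1, mul_inv_cancel_right, mul_inv_cancel]

end CfsgLib.EqualDegree
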