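import Cfsg.Agent.Lib.Modular.BrauerDegree
import Cfsg.Agent.Lib.Modular.BrauerRational
import Cfsg.Agent.Lib.Blocks.RankOneAlgebra
import Cfsg.Agent.Lib.Blocks.HeightClasses

/-!
# Blocks in which all irreducible characters have the same degree

Such a block has one irreducible Brauer character, its simple modules have dimension at least the
common degree, and the order of the defect group divides the number of its characters.
-/

set_option autoImplicit false
set_option linter.unusedSectionVars false
set_option linter.style.haveILetI false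

namespace CfsgLib.EqualDegree

open Cfsg Module CfsgLib.Modular CfsgLib.Blocks CfsgLib.BrauerChar
open scoped ComplexConjugate

universe u

variable {p : ℕ} [hp : Fact p.Prime] {M : Ideal AlgInt} [M.IsPrime]
variable {G : Type u} [Group G] [Fintype G] {B : Set (IrrCharacter G)} {f : ℕ}

/-- The `p`-part of the common degree. -/
theorem factorization_degree (hB : IsPBlock M B)
    (hf : ∀ χ ∈ B, charDegree (χ : G → ℂ) = f) :
    f ≠ 0 ∧ (Nat.card G).factorization p = f.factorization p + blockDefect p B := by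
  obtain ⟨χ, hχ⟩ := Blocks.IsPBlock.nonempty hB
  have hf0 : f ≠ 0 := hf χ hχ ▸ BlockOrth.irr_charDegree_ne_zero χ
  obtain ⟨χ₁, hχ₁, h0⟩ := BlockOrth.exists_blockHeight_eq_zero (p := p) hB
  have h1 := BlockOrth.blockMin_add_blockDefect (p := p) (Blocks.IsPBlock.nonempty hB)
  have h2 := (BlockOrth.blockHeight_eq_zero_iff hχ₁).1 h0
  rw [BlockOrth.degVal, hf χ₁ hχ₁] at h2
  exact ⟨hf0, by omega⟩

/-- Equal degrees: one irreducible Brauer character, and `p ^ d` divides the number of
characters. -/
theorem rank_one_and_dvd (hpM : (p : AlgInt) ∈ M) (hB : IsPBlock M B)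
    (hf : ∀ χ ∈ B, charDegree (χ : G → ℂ) = f) :
    blockRank p B = 1 ∧ p ^ blockDefect p B ∣ Nat.card B := by
  classical
  obtain ⟨V, hV⟩ := exists_place (p := p) hpM
  haveI := hV.charP
  haveI := Chars.irrFintype G
  obtain ⟨hf0, hfac⟩ := factorization_degree (p := p) hB hf
  have hone : IsPRegular p (1 : G) := by
    rw [IsPRegular, orderOf_one]; exact hp.out.not_dvd_one
  -- every reduction is an irreducible Brauer character
  have hsingle : ∀ χ ∈ B, ∀ L : List (G → ℂ),
      (∀ φ ∈ L, φ ∈ blockSimples hV (blockOf M (χ : G → ℂ))) →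
      pRegularPart p (χ : G → ℂ) = L.sum → L = [pRegularPart p (χ : G → ℂ)] := by
    intro χ hχ L hL hsum
    have hn : ∀ φ ∈ L, ∃ n : ℕ, φ 1 = n ∧ f ≤ n := by
      intro φ hφ
      have h1 := hL φ hφ
      rw [← Blocks.IsPBlock.eq_blockOf hB hχ] at h1
      obtain ⟨n, hn, hnpos, hdvd⟩ := exists_degree_dvd hV hB h1 (g := f)
        fun ψ hψ => (hf ψ hψ).symm.dvd
      exact ⟨n, hn, Nat.le_of_dvd hnpos hdvd⟩
    have h1 : L.sum 1 = (f : ℂ) := by
      rw [← hsum, pRegularPart, if_pos hone, BlockOrth.irr_apply_one, hf χ hχ]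
    match L, hn, hsum, h1 with
    | [], _, _, h1 => exact absurd (by simpa using h1.symm) hf0
    | [a], _, hsum, _ => simp [hsum]
    | a :: b :: t, hn, _, h1 =>
      exfalso
      obtain ⟨na, ha, hfa⟩ := hn a (by simp)
      obtain ⟨nb, hb, hfb⟩ := hn b (by simp)
      have ht : ∀ t : List (G → ℂ), (∀ φ ∈ t, ∃ n : ℕ, φ 1 = n ∧ f ≤ n) →
          ∃ n : ℕ, t.sum 1 = n := by
        intro t
        induction t with
        | nil => exact fun _ => ⟨0, by simp⟩
        | cons c t ih =>
          intro h
          obtain ⟨nc, hc, -⟩ := h c (by simp)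
          obtain ⟨m, hm⟩ := ih fun φ hφ => h φ (List.mem_cons_of_mem _ hφ)
          exact ⟨nc + m, by simp [hc, hm]⟩
      obtain ⟨nt, hnt⟩ := ht t fun φ hφ => hn φ (by simp [hφ])
      simp only [List.sum_cons, Pi.add_apply, ha, hb, hnt] at h1
      have h2 : na + (nb + nt) = f := by exact_mod_cast h1
      omega
  have hmem : ∀ χ ∈ B, pRegularPart p (χ : G → ℂ) ∈ blockSimples hV B := by
    intro χ hχ
    obtain ⟨L, hL, hsum⟩ := exists_block_decomposition hV χ
    have e := hsingle χ hχ L hL hsum
    rw [Blocks.IsPBlock.eq_blockOf hB hχ]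
    exact hL _ (by rw [e]; simp)
  obtain ⟨χ₀, hχ₀⟩ := Blocks.IsPBlock.nonempty hB
  set φ := pRegularPart p (χ₀ : G → ℂ) with hφ
  set S : Finset (IrrCharacter G) :=
    Finset.univ.filter fun χ => χ ∈ B ∧ pRegularPart p (χ : G → ℂ) = φ with hS
  have hSmem : ∀ χ : IrrCharacter G, χ ∈ S ↔ χ ∈ B ∧ pRegularPart p (χ : G → ℂ) = φ :=
    fun χ => by simp [hS]
  have hdec : ∀ χ : IrrCharacter G, dec hV χ φ = if χ ∈ S then 1 else 0 := by
    intro χ
    by_cases hχ : χ ∈ B
    · obtain ⟨hL, hsum⟩ := (exists_block_decomposition hV χ).choose_spec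
      rw [dec, hsingle χ hχ _ hL hsum]
      by_cases he : pRegularPart p (χ : G → ℂ) = φ
      · rw [if_pos ((hSmem χ).2 ⟨hχ, he⟩)]; simp [he]
      · rw [if_neg (fun h => he ((hSmem χ).1 h).2)]; simp [he]
    · rw [dec_eq_zero_of_notMem hV hB hχ (hmem χ₀ hχ₀), if_neg fun h => hχ ((hSmem χ).1 h).1]
  have hsimp : φ ∈ simpleChars p V G := blockSimples_subset hV B (hmem χ₀ hχ₀)
  -- `p ^ d` divides the number of characters with this reduction
  have hdvdS : p ^ blockDefect p B ∣ S.card := by
    have h1 := pow_dvd_sum_dec_mul hV hsimp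
    simp only [hdec] at h1
    rw [← Finset.sum_subset (Finset.subset_univ S) (fun χ _ hχ => by simp [hχ]),
      Finset.sum_congr rfl (g := fun _ => f) fun χ hχ => by
        rw [if_pos hχ, one_mul, hf χ ((hSmem χ).1 hχ).1],
      Finset.sum_const, smul_eq_mul] at h1
    have hS0 : S.card ≠ 0 := (Finset.card_pos.2 ⟨χ₀, (hSmem χ₀).2 ⟨hχ₀, rfl⟩⟩).ne'
    rw [hp.out.pow_dvd_iff_le_factorization (mul_ne_zero hS0 hf0),
      Nat.factorization_mul hS0 hf0, Finsupp.add_apply, hfac] at h1
    rw [hp.out.pow_dvd_iff_le_factorization hS0]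
    omega
  -- the idempotent of these characters is locally integral
  set a := blockCoeff (S : Set (IrrCharacter G)) with ha
  have hav : ∀ g, a g =
      (f : ℂ) / (Nat.card G : ℂ) * conj (∑ χ ∈ S, (χ : G → ℂ) g) := by
    intro g
    rw [ha, blockCoeff, finsum_mem_coe_finset, map_sum, Finset.mul_sum, Finset.mul_sum]
    refine Finset.sum_congr rfl fun χ hχ => ?_
    rw [BlockOrth.irr_apply_one, hf χ ((hSmem χ).1 hχ).1]
    ring
  have hloc : ∀ g, a g ∈ loc M := by
    intro g
    rw [hav g]
    by_cases hg : IsPRegular p g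
    · have e : ∑ χ ∈ S, (χ : G → ℂ) g = (S.card : ℂ) * (χ₀ : G → ℂ) g := by
        rw [← nsmul_eq_mul, ← Finset.sum_const]
        refine Finset.sum_congr rfl fun χ hχ => ?_
        have := congrFun ((hSmem χ).1 hχ).2 g
        simpa [hφ, pRegularPart, if_pos hg] using this
      rw [e, map_mul, Complex.conj_natCast, ← mul_assoc]
      refine mul_mem ?_ (conj_irr_mem_loc χ₀ g)
      have hN : (Nat.card G) ≠ 0 := Nat.card_pos.ne'
      obtain ⟨m, hm⟩ : p ^ (Nat.card G).factorization p ∣ f * S.card := by
        rw [hfac, pow_add]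
        exact mul_dvd_mul (Nat.ordProj_dvd f p) hdvdS
      set m' := Nat.card G / p ^ (Nat.card G).factorization p with hm'
      have hm'p : ¬ p ∣ m' := Nat.not_dvd_ordCompl hp.out hN
      have e2 : (f : ℂ) / (Nat.card G : ℂ) * (S.card : ℂ) = (m : ℂ) * ((m' : ℕ) : ℂ)⁻¹ := by
        rw [div_mul_eq_mul_div, ← Nat.cast_mul, hm]
        conv_lhs => arg 2; rw [← Nat.ordProj_mul_ordCompl_eq_self (Nat.card G) p]
        push_cast
        rw [mul_div_mul_left _ _ (pow_ne_zero _ (Nat.cast_ne_zero.2 hp.out.ne_zero)), div_eq_mul_inv]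
      rw [e2]
      exact mul_mem (natCast_mem_loc _) (inv_natCast_mem_loc hp.out hpM hm'p)
    · have h := sum_dec_mul_eq_zero hV hsimp hg
      simp only [hdec] at h
      rw [← Finset.sum_subset (Finset.subset_univ S) (fun χ _ hχ => by simp [hχ]),
        Finset.sum_congr rfl (g := fun χ : IrrCharacter G => (χ : G → ℂ) g)
          fun χ hχ => by rw [if_pos hχ, Nat.cast_one, one_mul]] at h
      rw [h, map_zero, mul_zero]
      exact zero_mem _
  have hall : ∀ χ ∈ B, pRegularPart p (χ : G → ℂ) = φ := by
    intro χ hχ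
    by_contra hne
    have h1 := omega_sub_mem (Blocks.IsPBlock.sameBlock hB hχ₀ hχ)
      (a := a) ⟨isClassFunction_blockCoeff _, hloc⟩
    rw [ha, omega_blockCoeff, omega_blockCoeff,
      if_pos (Finset.mem_coe.2 ((hSmem χ₀).2 ⟨hχ₀, rfl⟩)),
      if_neg (fun h => hne ((hSmem χ).1 (Finset.mem_coe.1 h)).2), sub_zero] at h1
    exact not_memLocalIdeal_one h1
  refine ⟨?_, ?_⟩
  · have hne : φ ≠ 0 := fun h => by
      have h1 := congrFun h 1
      rw [hφ, pRegularPart, if_pos hone] at h1
      exact Chars.irr_degree_ne_zero χ₀.2 h1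
    rw [blockRank, show Submodule.span ℂ ((fun χ : IrrCharacter G => pRegularPart p (χ : G → ℂ)) '' B) =
      Submodule.span ℂ {φ} from ?_, finrank_span_singleton hne]
    refine le_antisymm (Submodule.span_le.2 ?_) (Submodule.span_mono ?_)
    · rintro _ ⟨χ, hχ, rfl⟩
      simp only [hall χ hχ]
      exact Submodule.mem_span_singleton_self _
    · exact Set.singleton_subset_iff.2 ⟨χ₀, hχ₀, rfl⟩
  · have e : Nat.card B = S.card := by
      rw [← Nat.card_eq_finsetCard]
      exact Nat.card_congr (Equiv.subtypeEquivRight fun χ =>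
        ⟨fun h => (hSmem χ).2 ⟨h, hall χ h⟩, fun h => ((hSmem χ).1 h).1⟩)
    rwa [e]

/-- The class sum of `g` acts on a simple module of `B` by the central character. -/
theorem sum_class_smul (hB : IsPBlock M B) {W : Type*} [AddCommGroup W] [Module (ResField M) W]
    [FiniteDimensional (ResField M) W] {ρ : Representation (ResField M) G W} (hρ : IsSimpleRep ρ)
    (hρB : blockOp ρ hB = 1) {χ : IrrCharacter G} (hχ : χ ∈ B) (g : G) :
    opOf ρ (redF (classInd g) (isLocClassFun_classInd (M := M) g).2) =
      red (⟨centralChar (χ : G → ℂ) g, centralChar_mem_loc χ g⟩ : loc M) • 1 := by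
  classical
  haveI := hρ.nontrivial
  obtain ⟨c, hc⟩ := hρ.schur (f := opOf ρ (redF (classInd g) (isLocClassFun_classInd (M := M) g).2))
    fun x v => LinearMap.congr_fun
      (opOf_comm ρ (redF_conj (isLocClassFun_classInd (M := M) g)) x) v
  rw [← Module.End.one_eq_id] at hc
  rw [hc]
  congr 1
  set w : loc M := ⟨centralChar (χ : G → ℂ) g, centralChar_mem_loc χ g⟩ with hw
  have hci := isLocClassFun_classInd (M := M) g
  have hbc := isLocClassFun_blockCoeff (M := M) hB
  have hcv := hci.conv hbc
  have hsm := hbc.smul (neg_mem w.2)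
  have hlc := hcv.add hsm
  have hnil := isNilpotent_redFun hlc fun ψ => by
    rw [omega_add, omega_conv ψ hci.1, omega_smul, omega_classInd, omega_blockCoeff]
    by_cases hψ : ψ ∈ B
    · rw [if_pos hψ, mul_one, mul_one, ← sub_eq_add_neg]
      exact Blocks.IsPBlock.sameBlock hB hψ hχ g
    · rw [if_neg hψ, mul_zero, mul_zero, add_zero]
      exact MemLocalIdeal.zero'
  have e : redFun _ hlc.2 =
      redFun (classInd g) hci.2 * blockIdem hB - red w • blockIdem hB := by
    rw [blockIdem, redFun, redFun, redFun, ← map_mul, toAlg_conv hci.2 hbc.2 hcv.2]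
    apply MonoidAlgebra.ext
    ext x
    rw [MonoidAlgebra.coeff_sub, Finsupp.sub_apply, MonoidAlgebra.coeff_smul, Finsupp.smul_apply,
      smul_eq_mul, coeff_redAlg, coeff_redAlg, coeff_redAlg, ← map_mul, ← map_sub]
    congr 1
    apply Subtype.ext
    push_cast
    simp only [coeff_toAlg, Pi.add_apply, Pi.smul_apply, smul_eq_mul]
    ring
  have hop : ρ.asAlgebraHom (redFun (classInd g) hci.2) =
      opOf ρ (redF (classInd g) hci.2) := by
    rw [opOf, sum_single_coeff (redFun (classInd g) hci.2), map_sum]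
    refine Finset.sum_congr rfl fun x _ => ?_
    rw [Representation.asAlgebraHom_single, coeff_redFun]
    rfl
  have h1 := hnil.map ρ.asAlgebraHom
  rw [e, map_sub, map_mul, map_smul, hop, ← blockOp_eq_asAlgebraHom, hρB, mul_one, hc,
    ← sub_smul] at h1
  obtain ⟨k, hk⟩ := h1
  rw [smul_pow, one_pow] at hk
  exact sub_eq_zero.1 (eq_zero_of_pow_eq_zero ((smul_eq_zero.1 hk).resolve_right one_ne_zero))

/-- The simple modules of a block are at least as large as the common degree. -/
theorem le_finrank (hpM : (p : AlgInt) ∈ M) (hB : IsPBlock M B)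
    (hf : ∀ χ ∈ B, charDegree (χ : G → ℂ) = f) {W : Type*} [AddCommGroup W]
    [Module (ResField M) W] [FiniteDimensional (ResField M) W]
    {ρ : Representation (ResField M) G W} (hρ : IsSimpleRep ρ) (hρB : blockOp ρ hB = 1) :
    f ≤ finrank (ResField M) W := by
  classical
  obtain ⟨V, hV⟩ := exists_place (p := p) hpM
  haveI := hV.charP
  let j : loc M →+* Res V := (IsLocalRing.residue V).comp (Subring.inclusion hV.mem_of_loc)
  haveI : IsLocalHom j := ⟨fun a ha => isUnit_of_notMem_locIdeal fun hmem =>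
    ha.ne_zero ((hV.res_eq_zero_iff (a : ℂ) a.2).2 (mem_locIdeal.1 hmem))⟩
  set ι : ResField M →+* Res V := IsLocalRing.ResidueField.lift j with hι
  have hιred : ∀ a : loc M, ι (red a) = j a := fun a => rfl
  set n := finrank (ResField M) W with hn
  set b := Module.finBasis (ResField M) W
  have hn0 : 0 < n := by
    haveI := hρ.nontrivial
    exact Module.finrank_pos
  haveI : Nonempty (Fin n) := ⟨⟨0, hn0⟩⟩
  let A : G → Matrix (Fin n) (Fin n) (ResField M) := fun g => LinearMap.toMatrixAlgEquiv b (ρ g)
  let s0 : Representation (Res V) G (Fin n → Res V) :=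
    { toFun := fun g => Matrix.toLinAlgEquiv' ((A g).map ι)
      map_one' := by
        simp only [A, map_one, Matrix.map_one ι (map_zero ι) (map_one ι)]
      map_mul' := fun g h => by
        simp only [A, map_mul, Matrix.map_mul, map_mul] }
  obtain ⟨S, hS, -, hSs⟩ := exists_simple_le (ρ := s0) (U := ⊤)
    (fun g v _ => Submodule.mem_top) top_ne_bot
  set t := subRep s0 S hS
  let s : ColRep V G := ⟨_, finRep t⟩
  have hs : IsSimpleRep s.2 := isSimpleRep_finRep hSs
  have hscal : ∀ χ ∈ B, ∀ g, s.2.asAlgebraHom (classElt V g) = omegaRes hV χ g • 1 := by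
    intro χ hχ g
    have h0 := sum_class_smul hB hρ hρB hχ g
    have e0 : s0.asAlgebraHom (classElt V g) = omegaRes hV χ g • 1 := by
      have h1 := congrArg (LinearMap.toMatrixAlgEquiv b) h0
      rw [opOf, map_sum, map_smul, map_one] at h1
      have h2 := congrArg ι.mapMatrix h1
      rw [map_sum] at h2
      have h3 : ∑ x : G, (if IsConj g x then (A x).map ι else 0) =
          j ⟨centralChar (χ : G → ℂ) g, centralChar_mem_loc χ g⟩ • (1 : Matrix (Fin n) (Fin n) (Res V)) := by
        refine Eq.trans (Finset.sum_congr rfl fun x _ => ?_) (h2.trans ?_)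
        · ext i k
          simp only [RingHom.mapMatrix_apply, Matrix.map_apply, map_smul, Matrix.smul_apply,
            smul_eq_mul, map_mul, redF, hιred]
          by_cases hx : IsConj g x
          · rw [if_pos hx, show (⟨classInd g x, _⟩ : loc M) = 1 from
              Subtype.ext (show classInd g x = 1 by rw [classInd_apply, if_pos hx]), map_one, one_mul]
            rfl
          · rw [if_neg hx, show (⟨classInd g x, _⟩ : loc M) = 0 from
              Subtype.ext (show classInd g x = 0 by rw [classInd_apply, if_neg hx]), map_zero, zero_mul]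
            rfl
        · ext i k
          simp only [RingHom.mapMatrix_apply, Matrix.map_apply, Matrix.smul_apply, smul_eq_mul,
            map_mul, hιred, Matrix.one_apply]
          split_ifs <;> simp
      have h4 := congrArg (Matrix.toLinAlgEquiv' (R := Res V) (n := Fin n)) h3
      rw [map_sum, map_smul, map_one] at h4
      refine Eq.trans ?_ h4
      rw [classElt, map_sum, Finset.sum_filter]
      refine Finset.sum_congr (Finset.ext fun x => by simp) fun x _ => ?_
      split_ifs
      · rw [Representation.asAlgebraHom_single_one]; rfl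
      · rw [map_zero]
    refine LinearMap.ext fun v => ?_
    have h1 := intertwine_algebra (ρ := t) (σ := finRep t)
      ((Module.finBasis (Res V) S).equivFun : S →ₗ[Res V] _)
      (fun g v => finRep_intertwine t g v) (classElt V g)
      ((Module.finBasis (Res V) S).equivFun.symm v)
    rw [LinearEquiv.coe_coe, LinearEquiv.apply_symm_apply] at h1
    rw [← h1, show t.asAlgebraHom (classElt V g)
        ((Module.finBasis (Res V) S).equivFun.symm v) =
        omegaRes hV χ g • (Module.finBasis (Res V) S).equivFun.symm v from Subtype.ext (by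
      rw [asAlgebraHom_subRep, e0]; rfl), map_smul, LinearEquiv.apply_symm_apply]
    rfl
  obtain ⟨m, hm, hmpos, hdvd⟩ := exists_degree_dvd hV hB
    (φ := bch p s.2) ⟨s, hs, rfl, hscal⟩ (g := f) fun ψ hψ => (hf ψ hψ).symm.dvd
  rw [bch_one, Nat.cast_inj, Module.finrank_fin_fun] at hm
  refine (Nat.le_of_dvd hmpos hdvd).trans (hm ▸ ?_)
  exact (Submodule.finrank_le S).trans (Module.finrank_fin_fun _).le

end CfsgLib.EqualDegree
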