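import Cfsg.Agent.Lib.Blocks.EqualDegree.Rank
import Cfsg.Agent.Lib.Blocks.EqualDegree.CenterDim
import Cfsg.Agent.Lib.Blocks.MinSquares.Main

/-!
# The socle of the centre of a block with equal degrees

The block algebra is a matrix algebra over its centre, so the centre is a symmetric local algebra
and its socle is a line.
-/

set_option autoImplicit false
set_option linter.unusedSectionVars false
set_option linter.style.haveILetI false

namespace CfsgLib.EqualDegree

open Cfsg CfsgLib.Blocks CfsgLib.Chars CfsgLib.Modular Module Polynomial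

variable {G : Type*} [Group G] [Fintype G] {M : Ideal AlgInt} [M.IsPrime] {p : ℕ} [Fact p.Prime]
  {B : Set (IrrCharacter G)} {f : ℕ}

/-- An idempotent matrix over the local ring keeps its rank modulo `M`. -/
theorem rank_le_trace {n : Type*} [Fintype n] [DecidableEq n] {T : Matrix n n (loc M)}
    (hT : T * T = T) {r : ℕ} (hr : (T.map (Subring.subtype (loc M))).trace = (r : ℂ)) :
    (T.map red).rank ≤ r := by
  have h1 : (1 - T) * (1 - T) = 1 - T := by
    rw [mul_sub, mul_one, sub_mul, one_mul, hT, sub_self, sub_zero]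
  obtain ⟨r', hr', hle, -⟩ := exists_trace_le_rank h1
  rw [Matrix.map_sub _ (map_sub _), Matrix.map_one _ (map_zero _) (map_one _)] at hr' hle
  rw [Matrix.trace_sub, Matrix.trace_one, hr] at hr'
  have hsum : r + r' = Fintype.card n := by
    apply Nat.cast_injective (R := ℂ)
    push_cast
    rw [← hr']
    ring
  have hKK : T.map red * T.map red = T.map red := by rw [← Matrix.map_mul, hT]
  have h2 : LinearMap.range (1 - T.map red).mulVecLin ≤ LinearMap.ker (T.map red).mulVecLin := by
    rintro _ ⟨v, rfl⟩
    rw [LinearMap.mem_ker, Matrix.mulVecLin_apply, Matrix.mulVecLin_apply, Matrix.mulVec_mulVec,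
      mul_sub, mul_one, hKK, sub_self, Matrix.zero_mulVec]
  have h3 := Submodule.finrank_mono h2
  have h4 := LinearMap.finrank_range_add_finrank_ker (T.map red).mulVecLin
  rw [Module.finrank_pi] at h4
  simp only [Matrix.rank] at hle ⊢
  omega

/-- The block algebra has dimension at most the sum of the squared degrees. -/
theorem finrank_blockAlg_le (hB : IsPBlock M B) :
    finrank (ResField M) (LinearMap.range (LinearMap.mulLeft (ResField M) (blockIdem hB))) ≤
      ∑ᶠ χ ∈ B, charDegree (χ : G → ℂ) ^ 2 := by
  classical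
  let T : Matrix G G (loc M) := fun g h => ⟨blockCoeff B (g * h⁻¹), blockCoeff_mem_loc hB _⟩
  have hT : T * T = T := by
    ext g h
    rw [Matrix.mul_apply]
    push_cast
    show ∑ u, blockCoeff B (g * u⁻¹) * blockCoeff B (u * h⁻¹) = blockCoeff B (g * h⁻¹)
    conv_rhs => rw [← congrFun (conv_blockCoeff_self B) (g * h⁻¹)]
    simp only [Blocks.conv]
    rw [← Equiv.sum_comp ((Equiv.inv G).trans (Equiv.mulRight g))]
    refine Finset.sum_congr rfl fun u _ => ?_
    simp only [Equiv.trans_apply, Equiv.inv_apply, Equiv.coe_mulRight, mul_inv_rev, inv_inv,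
      mul_inv_cancel_left, mul_assoc]
  have htr : (T.map (Subring.subtype (loc M))).trace =
      ((∑ᶠ χ ∈ B, charDegree (χ : G → ℂ) ^ 2 : ℕ) : ℂ) := by
    rw [← MinSquares.blockKernel_trace hB, map_sum, Matrix.trace]
    refine Finset.sum_congr rfl fun g _ => ?_
    show blockCoeff B (g * g⁻¹) = blockCoeff B (g⁻¹ * g)
    rw [mul_inv_cancel, inv_mul_cancel]
  refine le_trans (le_of_eq ?_) (rank_le_trace hT htr)
  let e : MonoidAlgebra (ResField M) G ≃ₗ[ResField M] (G → ResField M) :=
    { toFun := fun x g => x.coeff g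
      map_add' := fun a b => by funext g; simp
      map_smul' := fun r a => by funext g; simp
      invFun := fun v => MonoidAlgebra.ofCoeff (Finsupp.equivFunOnFinite.symm v)
      left_inv := fun x => by apply MonoidAlgebra.ext; ext g; simp
      right_inv := fun v => by funext g; simp }
  have hcomp : (T.map red).mulVecLin.comp e.toLinearMap =
      e.toLinearMap.comp (LinearMap.mulLeft (ResField M) (blockIdem hB)) := by
    refine LinearMap.ext fun x => funext fun g => ?_
    show ∑ h, red (T g h) * x.coeff h = (blockIdem hB * x).coeff g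
    conv_rhs => rw [sum_single_coeff x, Finset.mul_sum]
    rw [MonoidAlgebra.coeff_sum, Finsupp.finsetSum_apply]
    refine Finset.sum_congr rfl fun h _ => ?_
    rw [MonoidAlgebra.coeff_mul_single_apply, blockIdem, coeff_redFun]
  rw [Matrix.rank, ← LinearMap.range_comp_of_range_eq_top (T.map red).mulVecLin e.range, hcomp,
    LinearMap.range_comp, LinearEquiv.finrank_map_eq]

/-- **The socle of the centre is a line.** -/
theorem socle_line (hpM : (p : AlgInt) ∈ M) (hB : IsPBlock M B)
    (hf : ∀ χ ∈ B, charDegree (χ : G → ℂ) = f)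
    {s s' : MonoidAlgebra (ResField M) G} (hs : s ∈ blockCenter hB) (hs' : s' ∈ blockCenter hB)
    (hks : ∀ j ∈ blockCenter hB, IsNilpotent j → j * s = 0)
    (hks' : ∀ j ∈ blockCenter hB, IsNilpotent j → j * s' = 0) (hs0 : s ≠ 0) :
    ∃ c : ResField M, s' = c • s := by
  classical
  obtain ⟨hl, -⟩ := rank_one_and_dvd hpM hB hf
  haveI : FiniteDimensional (ResField M) (MonoidAlgebra (ResField M) G) := inferInstance
  set e := blockIdem hB with he
  have hec : ∀ x, e * x = x * e := fun x => (commute_blockIdem hB x).eq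
  set lr := leftRep (ResField M) G
  have hW : IsInvar lr (LinearMap.range (LinearMap.mulLeft (ResField M) e)) := by
    rintro g _ ⟨w, rfl⟩
    refine ⟨MonoidAlgebra.single g 1 * w, ?_⟩
    show e * (MonoidAlgebra.single g 1 * w) = MonoidAlgebra.single g 1 * (e * w)
    rw [← mul_assoc, hec, mul_assoc]
  obtain ⟨V, hV, hVW, hρ⟩ := exists_simple_le hW fun h => blockIdem_ne_zero hB (by
    have h1 : e * 1 ∈ (⊥ : Submodule (ResField M) (MonoidAlgebra (ResField M) G)) :=
      h ▸ ⟨1, rfl⟩
    simpa using h1)
  set ρ := subRep lr V hV with hρdef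
  have hρB : blockOp ρ hB = 1 := by
    rw [blockOp_eq_asAlgebraHom]
    refine LinearMap.ext fun s => Subtype.ext ?_
    rw [asAlgebraHom_subRep, asAlgebraHom_leftRep]
    obtain ⟨w, hw⟩ := hVW s.2
    show e * (s : MonoidAlgebra (ResField M) G) = s
    rw [← hw, LinearMap.mulLeft_apply, ← mul_assoc, blockIdem_mul_self]
  have hρe : ρ.asAlgebraHom e = 1 := by rw [← blockOp_eq_asAlgebraHom, hρB]
  obtain ⟨i, w, L, hii, hei, hLw, hρi⟩ := exists_idem_rank_one hB hρ hρB
  have hie : i * e = i := by rw [← hec, hei]
  set E : Module.End (ResField M) V := L.smulRight w with hE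
  have hEE : E * E = E := by ext v; simp [hE, hLw]
  set K := LinearMap.ker ρ.asAlgebraHom.toLinearMap with hK
  have hKmem : ∀ x, x ∈ K ↔ ρ.asAlgebraHom x = 0 := fun x => Iff.rfl
  -- nothing of the block is divisible by the kernel of the simple module
  have hstrict : ∀ X : Submodule (ResField M) (MonoidAlgebra (ResField M) G),
      (∀ y ∈ X, y * e = y) → X ≤ X * K → X = ⊥ := by
    intro X hXe hX
    by_contra hX0
    obtain ⟨z, hz, hz0⟩ := (Submodule.ne_bot_iff _).1 hX0
    let U : Submodule (ResField M) (MonoidAlgebra (ResField M) G) :=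
      ⨅ a : MonoidAlgebra (ResField M) G, ⨅ y : X,
        LinearMap.ker (LinearMap.mulLeft (ResField M) ((y : MonoidAlgebra (ResField M) G) * a))
    have hmemU : ∀ u, u ∈ U ↔ ∀ a, ∀ y ∈ X, y * a * u = 0 := fun u => by
      simp only [U, Submodule.mem_iInf, LinearMap.mem_ker, LinearMap.mulLeft_apply,
        Subtype.forall]
    have hUinv : IsInvar lr U := fun g u hu => by
      rw [hmemU] at hu ⊢
      intro a y hy
      show y * a * (MonoidAlgebra.single g 1 * u) = 0
      rw [← mul_assoc, mul_assoc y a]
      exact hu _ y hy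
    obtain ⟨v, hv, hkill, -⟩ := exists_socle_elt hpM hB hl hV hρ hρB hUinv
      (fun h => hz0 (by simpa [← he, hXe z hz] using (hmemU _).1 h 1 z hz))
    refine hv ((hmemU v).2 fun a y hy => ?_)
    have hker : y ∈ LinearMap.ker (LinearMap.mulRight (ResField M) (a * v)) := by
      refine (Submodule.mul_le.2 fun y₁ hy₁ y₂ hy₂ => ?_ : X * K ≤ _) (hX hy)
      show y₁ * y₂ * (a * v) = 0
      have h1 := (hmemU _).1 (hkill (y₂ * a) (by
        rw [map_mul, (hKmem y₂).1 hy₂, zero_mul])) 1 y₁ hy₁
      rw [mul_one] at h1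
      simpa only [mul_assoc] using h1
    rw [LinearMap.mem_ker, LinearMap.mulRight_apply, ← mul_assoc] at hker
    exact hker
  have hstrict₁ : ∀ y κ, y * e = y → ρ.asAlgebraHom κ = 0 → y = y * κ → y = 0 := by
    intro y κ hye hκ hyκ
    have h := hstrict (Submodule.span (ResField M) {y}) (fun x hx => by
        obtain ⟨c, rfl⟩ := Submodule.mem_span_singleton.1 hx
        rw [smul_mul_assoc, hye])
      ((Submodule.span_singleton_le_iff_mem _ _).2 (by
        have h1 := Submodule.mul_mem_mul (Submodule.mem_span_singleton_self (R := ResField M) y)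
          ((hKmem κ).2 hκ)
        rwa [← hyκ] at h1))
    simpa using h
  have hnil : ∀ x, x * e = x → ρ.asAlgebraHom x = 0 → IsNilpotent x := by
    intro x hxe hx0
    have hint : IsIntegral (ResField M) x :=
      (Algebra.IsIntegral.of_finite (ResField M) (MonoidAlgebra (ResField M) G)).isIntegral x
    obtain ⟨g, hg, hgX⟩ := exists_eq_pow_rootMultiplicity_mul_and_not_dvd (minpoly (ResField M) x)
      (minpoly.ne_zero hint) 0
    rw [C_0, sub_zero] at hg hgX
    obtain ⟨a, b, hab⟩ : IsCoprime X g := irreducible_X.coprime_iff_not_dvd.2 hgX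
    set m := rootMultiplicity 0 (minpoly (ResField M) x)
    refine ⟨m + 1, hstrict₁ _ (x * aeval x a) ?_ ?_ ?_⟩
    · rw [pow_succ, mul_assoc, hxe]
    · rw [map_mul, hx0, zero_mul]
    · have h1 := congrArg (aeval x) hab
      rw [map_add, map_mul, map_mul, aeval_X, map_one] at h1
      have h2 : x * x ^ m * aeval x g = 0 := by
        have := minpoly.aeval (ResField M) x
        rw [hg, map_mul, map_pow, aeval_X] at this
        rw [mul_assoc, this, mul_zero]
      conv_lhs => rw [← mul_one (x ^ (m + 1)), ← h1, mul_add]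
      have hcomm : aeval x b * aeval x g = aeval x g * aeval x b := by
        rw [← map_mul, ← map_mul, mul_comm]
      have hcomm' : aeval x a * x = x * aeval x a := by
        have := congrArg (aeval x) (mul_comm a X)
        simpa using this
      rw [hcomm, ← mul_assoc _ (aeval x g), pow_succ', h2, zero_mul, add_zero, hcomm']
  -- the corner
  set π := (LinearMap.mulRight (ResField M) i).comp (LinearMap.mulLeft (ResField M) i) with hπdef
  have hπ : ∀ x, π x = i * x * i := fun x => rfl
  set C := LinearMap.range π with hC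
  have hfix : ∀ a ∈ C, i * a = a ∧ a * i = a := by
    rintro _ ⟨x, rfl⟩
    simp only [hπ, ← mul_assoc, hii]
    exact ⟨trivial, by rw [mul_assoc, hii]⟩
  have hiC : i ∈ C := ⟨i, by rw [hπ, hii, hii]⟩
  have hmulC : ∀ a ∈ C, ∀ b ∈ C, a * b ∈ C := fun a ha b hb =>
    ⟨a * b, by rw [hπ, ← mul_assoc, (hfix a ha).1, mul_assoc, (hfix b hb).2]⟩
  have hCe : ∀ a ∈ C, a * e = a ∧ e * a = a := fun a ha => by
    have h1 : a * e = a := by rw [← (hfix a ha).2, mul_assoc, hie]
    exact ⟨h1, by rw [hec, h1]⟩
  set bW := Module.finBasis (ResField M) V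
  set n := finrank (ResField M) V with hn
  have hfn : f ≤ n := le_finrank hpM hB hf hρ hρB
  choose u hu using fun j : Fin n => hρ.asAlgebraHom_surjective (L.smulRight (bW j))
  choose v hv using fun j : Fin n => hρ.asAlgebraHom_surjective ((bW.coord j).smulRight w)
  let P : Fin n → Fin n → MonoidAlgebra (ResField M) G := fun a j => i * v a * u j * i
  have hPC : ∀ a j, P a j ∈ C := fun a j => ⟨v a * u j, by rw [hπ, ← mul_assoc]⟩
  have hρP : ∀ a j, ρ.asAlgebraHom (P a j) = if a = j then E else 0 := by
    intro a j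
    simp only [P, map_mul, hu, hv, hρi]
    refine LinearMap.ext fun x => ?_
    split_ifs with h
    · subst h
      simp [hE, hLw]
    · simp [hE, hLw, Finsupp.single_eq_of_ne h]
  let R : (Fin n → C) →ₗ[ResField M] (Fin n → C) := LinearMap.pi fun j =>
    LinearMap.codRestrict C
      (∑ a, (LinearMap.mulRight (ResField M) (P a j)) ∘ₗ C.subtype ∘ₗ LinearMap.proj a)
      (fun r => by
        simp only [LinearMap.coe_sum, Finset.sum_apply, LinearMap.comp_apply,
          LinearMap.mulRight_apply]
        exact Submodule.sum_mem _ fun a _ => hmulC _ (r a).2 _ (hPC a j))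
  have hR : ∀ r j, (R r j : MonoidAlgebra (ResField M) G) =
      ∑ a, (r a : MonoidAlgebra (ResField M) G) * P a j := fun r j => by
    simp [R, LinearMap.sum_apply]
  have hRinj : Function.Injective R := by
    refine (injective_iff_map_eq_zero R).2 fun r hr => ?_
    have hX := hstrict (Submodule.span (ResField M)
        (Set.range fun a => (r a : MonoidAlgebra (ResField M) G)))
      (fun y hy => by
        refine (Submodule.span_le.2 ?_ :
          Submodule.span (ResField M) _ ≤ LinearMap.eqLocus
            (LinearMap.mulRight (ResField M) e) LinearMap.id) hy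
        rintro _ ⟨a, rfl⟩
        exact (hCe _ (r a).2).1)
      (Submodule.span_le.2 (by
        rintro _ ⟨j, rfl⟩
        have h1 : (r j : MonoidAlgebra (ResField M) G) =
            -∑ a, (r a : MonoidAlgebra (ResField M) G) * (P a j - if a = j then i else 0) := by
          have h2 := hR r j
          rw [hr] at h2
          simp only [mul_sub, Finset.sum_sub_distrib, mul_ite, mul_zero, Finset.sum_ite_eq',
            Finset.mem_univ, if_true, ← h2, (hfix _ (r j).2).2]
          simp
        rw [SetLike.mem_coe]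
        simp only
        rw [h1]
        refine Submodule.neg_mem _ (Submodule.sum_mem _ fun a _ => Submodule.mul_mem_mul
          (Submodule.subset_span ⟨a, rfl⟩) ((hKmem _).2 ?_))
        rw [map_sub, hρP]
        split_ifs <;> simp [hρi, hE]))
    funext a
    apply Subtype.ext
    have h1 : (r a : MonoidAlgebra (ResField M) G) ∈ Submodule.span (ResField M)
        (Set.range fun a => (r a : MonoidAlgebra (ResField M) G)) :=
      Submodule.subset_span ⟨a, rfl⟩
    rw [hX, Submodule.mem_bot] at h1
    exact h1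
  choose q hq using fun l : Fin n =>
    (LinearMap.injective_iff_surjective.1 hRinj)
      (fun j => if l = j then (⟨i, hiC⟩ : C) else 0)
  let v' : Fin n → MonoidAlgebra (ResField M) G := fun l =>
    ∑ a, (q l a : MonoidAlgebra (ResField M) G) * v a
  have hqrel : ∀ l j, ∑ a, (q l a : MonoidAlgebra (ResField M) G) * P a j =
      if l = j then i else 0 := fun l j => by
    rw [← hR, hq]
    by_cases h : l = j <;> simp [h]
  have horth : ∀ l j, v' l * u j * i = if l = j then i else 0 := by
    intro l j
    rw [← hqrel]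
    simp only [v', P, Finset.sum_mul]
    refine Finset.sum_congr rfl fun a _ => ?_
    conv_lhs => rw [← (hfix _ (q l a).2).2]
    simp only [mul_assoc]
  have hρq : ∀ l j, ρ.asAlgebraHom (q l j) = if l = j then E else 0 := by
    intro l j
    have h1 := congrArg ρ.asAlgebraHom (hqrel l j)
    rw [map_sum] at h1
    simp only [map_mul, hρP, mul_ite, mul_zero, Finset.sum_ite_eq', Finset.mem_univ, if_true] at h1
    rw [show E = ρ.asAlgebraHom i from hρi.symm, ← map_mul, (hfix _ (q l j).2).2] at h1
    rw [h1]
    split_ifs <;> simp [hρi, hE]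
  set Q := ∑ j, u j * i * v' j with hQ
  have hρQ : ρ.asAlgebraHom Q = 1 := by
    refine LinearMap.ext fun x => ?_
    simp only [hQ, v', map_sum, map_mul, Finset.mul_sum, LinearMap.coe_sum, Finset.sum_apply]
    rw [Module.End.one_apply]
    conv_rhs => rw [← bW.sum_repr x]
    refine Finset.sum_congr rfl fun j _ => ?_
    rw [Finset.sum_eq_single j]
    · simp [hρq, hu, hv, hρi, hE, hLw]
    · intro a _ ha
      simp [hρq, Ne.symm ha]
    · simp
  have hzinj : ∀ z ∈ blockCenter hB, z * i = 0 → z = 0 := by
    intro z hz hzi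
    refine hstrict₁ z (1 - Q) (by rw [← hec, hz.2]) ?_ ?_
    · rw [map_sub, map_one, hρQ, sub_self]
    · rw [mul_sub, mul_one, hQ, Finset.mul_sum, Finset.sum_eq_zero fun j _ => ?_, sub_zero]
      rw [← mul_assoc, ← mul_assoc, ← hz.1, mul_assoc (u j), hzi, mul_zero, zero_mul]
  -- dimensions
  let Φ : (Fin n → Fin n → C) →ₗ[ResField M] MonoidAlgebra (ResField M) G :=
    ∑ a, ∑ b, (LinearMap.mulRight (ResField M) (v' b)) ∘ₗ (LinearMap.mulLeft (ResField M) (u a))
      ∘ₗ C.subtype ∘ₗ LinearMap.proj b ∘ₗ LinearMap.proj a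
  have hΦ : ∀ c, Φ c = ∑ a, ∑ b, u a * (c a b : MonoidAlgebra (ResField M) G) * v' b := fun c => by
    simp [Φ, LinearMap.sum_apply]
  have hΦinj : Function.Injective Φ := by
    refine (injective_iff_map_eq_zero Φ).2 fun c hc => funext fun a₀ => funext fun b₀ => ?_
    apply Subtype.ext
    have h1 := congrArg (fun x => v' a₀ * x * (u b₀ * i)) hc
    simp only [hΦ, Finset.mul_sum, Finset.sum_mul, mul_zero, zero_mul] at h1
    rw [Finset.sum_eq_single a₀, Finset.sum_eq_single b₀] at h1
    · have e1 : v' a₀ * (u a₀ * (c a₀ b₀ : MonoidAlgebra (ResField M) G) * v' b₀) * (u b₀ * i) =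
          (v' a₀ * u a₀ * i) * (c a₀ b₀ : MonoidAlgebra (ResField M) G) * (v' b₀ * u b₀ * i) := by
        conv_lhs => rw [← (hfix _ (c a₀ b₀).2).1]
        simp only [mul_assoc]
      rw [e1, horth, horth, if_pos rfl, if_pos rfl, (hfix _ (c a₀ b₀).2).1,
        (hfix _ (c a₀ b₀).2).2] at h1
      exact h1
    · intro b _ hb
      rw [mul_assoc (v' a₀), mul_assoc _ (v' b), ← mul_assoc (v' b), horth, if_neg hb, mul_zero,
        mul_zero]
    · simp
    · intro a _ ha
      refine Finset.sum_eq_zero fun b _ => ?_
      conv_lhs => rw [← (hfix _ (c a b).2).1]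
      simp only [← mul_assoc]
      rw [horth, if_neg (Ne.symm ha)]
      simp
    · simp
  have hdim : n * n * finrank (ResField M) C ≤ Nat.card B * f ^ 2 := by
    have h1 : ∑ᶠ χ ∈ B, charDegree (χ : G → ℂ) ^ 2 = Nat.card B * f ^ 2 := by
      haveI := irrFintype G
      rw [finsum_mem_eq_toFinset_sum, Finset.sum_congr rfl (g := fun _ => f ^ 2)
        fun χ hχ => by rw [hf χ (Set.mem_toFinset.1 hχ)], Finset.sum_const, smul_eq_mul,
        Set.toFinset_card, Nat.card_eq_fintype_card]
    rw [← h1]
    refine le_trans ?_ (finrank_blockAlg_le hB)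
    have h2 : LinearMap.range Φ ≤ LinearMap.range (LinearMap.mulLeft (ResField M) e) := by
      rintro _ ⟨c, rfl⟩
      refine ⟨Φ c, ?_⟩
      rw [LinearMap.mulLeft_apply, hΦ, Finset.mul_sum]
      refine Finset.sum_congr rfl fun a _ => ?_
      rw [Finset.mul_sum]
      refine Finset.sum_congr rfl fun b _ => ?_
      rw [← mul_assoc, ← mul_assoc, hec, mul_assoc (u a), (hCe _ (c a b).2).2]
    refine le_trans (le_of_eq ?_) (Submodule.finrank_mono h2)
    rw [LinearMap.finrank_range_of_inj hΦinj, Module.finrank_pi_fintype, Finset.sum_const,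
      Module.finrank_pi_fintype, Finset.sum_const, Finset.card_univ, Fintype.card_fin,
      smul_eq_mul, smul_eq_mul, mul_assoc]
  let Ψ : blockCenter hB →ₗ[ResField M] C :=
    ((LinearMap.mulRight (ResField M) i) ∘ₗ (blockCenter hB).subtype).codRestrict C fun z =>
      ⟨z, by
        rw [hπ, LinearMap.comp_apply, LinearMap.mulRight_apply, Submodule.subtype_apply,
          z.2.1 i, mul_assoc, hii]⟩
  have hΨ : ∀ z, (Ψ z : MonoidAlgebra (ResField M) G) =
      (z : MonoidAlgebra (ResField M) G) * i := fun z => rfl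
  have hΨinj : Function.Injective Ψ := (injective_iff_map_eq_zero Ψ).2 fun z hz =>
    Subtype.ext (hzinj z z.2 (by rw [← hΨ, hz]; rfl))
  have hΨsur : Function.Surjective Ψ := by
    have h1 := LinearMap.finrank_le_finrank_of_injective hΨinj
    rw [finrank_blockCenter] at h1
    have hn0 : 0 < n := by
      haveI := hρ.nontrivial
      exact Module.finrank_pos
    have h2 : n * n * finrank (ResField M) C ≤ n * n * Nat.card B :=
      hdim.trans (le_of_eq_of_le (mul_comm _ _) (Nat.mul_le_mul_right _
        (by rw [sq]; exact Nat.mul_le_mul hfn hfn)))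
    have h3 := Nat.le_of_mul_le_mul_left h2 (Nat.mul_pos hn0 hn0)
    exact (LinearMap.injective_iff_surjective_of_finrank_eq_finrank
      (by rw [finrank_blockCenter]; omega)).1 hΨinj
  -- the symmetric form
  have hform : ∀ t ∈ blockCenter hB, (∀ j ∈ blockCenter hB, IsNilpotent j → j * t = 0) → t ≠ 0 →
      formOne G M (t * i) ≠ 0 := by
    intro t ht hkt ht0 h0
    refine ht0 (hzinj t ht (eq_zero_of_formOne fun x => ?_))
    have hti : t * i = i * (t * i) * i := by rw [← mul_assoc, ht.1 i, mul_assoc t i i, hii, mul_assoc, hii]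
    obtain ⟨z, hz⟩ := hΨsur ⟨i * x * i, ⟨x, rfl⟩⟩
    have hz' : (z : MonoidAlgebra (ResField M) G) * i = i * x * i := congrArg Subtype.val hz
    have e1 : formOne G M (t * i * x) = formOne G M (t * i * (i * x * i)) := by
      conv_lhs => rw [hti, mul_assoc, mul_assoc, formOne_mul_comm]
      congr 1
      simp only [mul_assoc]
    rw [e1, ← hz']
    obtain ⟨c, hc⟩ := hρ.schur (f := ρ.asAlgebraHom (z : MonoidAlgebra (ResField M) G))
      fun g x => by
        have h1 := congrArg (fun a => ρ.asAlgebraHom a x) (z.2.1 (MonoidAlgebra.single g 1))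
        simp only [map_mul, Representation.asAlgebraHom_single_one, Module.End.mul_apply] at h1
        exact h1.symm
    have hj : (z : MonoidAlgebra (ResField M) G) - c • e ∈ blockCenter hB :=
      sub_mem z.2 (Submodule.smul_mem _ _ (blockIdem_mem_blockCenter hB))
    have hjn := hnil ((z : MonoidAlgebra (ResField M) G) - c • e)
      (by rw [← hec, hj.2]) (by
        rw [map_sub, map_smul, hρe, hc, Module.End.one_eq_id, sub_self])
    have h2 := hkt _ hj hjn
    rw [sub_mul, smul_mul_assoc, ht.2, sub_eq_zero] at h2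
    rw [mul_assoc t i, ← mul_assoc i, z.2.1 i, mul_assoc (z : MonoidAlgebra (ResField M) G), hii,
      ← mul_assoc, ← z.2.1 t] at *
    rw [h2, smul_mul_assoc, map_smul, h0, smul_zero]
  have hne := hform s hs hks hs0
  refine ⟨formOne G M (s' * i) / formOne G M (s * i), ?_⟩
  set c := formOne G M (s' * i) / formOne G M (s * i)
  by_contra hne'
  refine hform (s' - c • s) (sub_mem hs' (Submodule.smul_mem _ _ hs))
    (fun j hj hjn => by rw [mul_sub, mul_smul_comm, hks' j hj hjn, hks j hj hjn, smul_zero, sub_zero])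
    (sub_ne_zero.2 hne') ?_
  rw [sub_mul, map_sub, smul_mul_assoc, map_smul, smul_eq_mul, div_mul_cancel₀ _ hne, sub_self]

end CfsgLib.EqualDegree
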